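import Cfsg.Agent.Lib.SmithTyrer.Lift
import Cfsg.Agent.Lib.CharTheory.Degree
import Cfsg.Agent.Lib.CharTheory.Linear
import Cfsg.Agent.Lib.CharTheory.Induced

/-!
The faithful invariant character of the preimage of the Sylow subgroup in a central extension.
-/

set_option autoImplicit false
set_option linter.unusedSectionVars false

namespace CfsgLib.SmithTyrer

open Cfsg CfsgLib.CharTheory
open scoped ComplexConjugate

universe u

variable {p : ℕ} [hp : Fact p.Prime] {G : Type u} [Group G] [Finite G]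

/-- A central extension by a group of order `p` that is not split over the Sylow subgroup. -/
structure ExtData (P : Sylow p G) (E : Type u) [Group E] [Finite E] where
  /-- The projection. -/
  τ : E →* G
  surj : Function.Surjective τ
  central : τ.ker ≤ Subgroup.center E
  card_ker : Nat.card τ.ker = p
  nonabelian : ∃ x y : E, τ x ∈ (P : Subgroup G) ∧ τ y ∈ (P : Subgroup G) ∧ x * y ≠ y * x

variable {P : Sylow p G} {E : Type u} [Group E] [Finite E] (X : ExtData P E)

namespace ExtData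

theorem ker_pEl {z : E} (hz : z ∈ X.τ.ker) : IsPEl p z :=
  ⟨1, by rw [pow_one, ← X.card_ker]; exact congrArg Subtype.val (pow_card_eq_one' (x := (⟨z, hz⟩ : X.τ.ker)))⟩

theorem comm_ker {z : E} (hz : z ∈ X.τ.ker) (e : E) : Commute z e :=
  (Subgroup.mem_center_iff.1 (X.central hz) e).symm

theorem pre_pGroup : IsPGroup p ↥((P : Subgroup G).comap X.τ) := by
  rintro ⟨w, hw⟩
  obtain ⟨k, hk⟩ := isPEl_of_mem P.2 (show X.τ w ∈ (P : Subgroup G) from hw)
  obtain ⟨l, hl⟩ := X.ker_pEl (show w ^ p ^ k ∈ X.τ.ker by rw [MonoidHom.mem_ker, map_pow, hk])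
  exact ⟨k + l, Subtype.ext (by rw [Subgroup.coe_pow, pow_add, pow_mul, hl, Subgroup.coe_one])⟩

theorem pre_index : ((P : Subgroup G).comap X.τ).index = (P : Subgroup G).index :=
  Subgroup.index_comap_of_surjective _ X.surj

/-- The preimage as a Sylow subgroup. -/
noncomputable def pre : Sylow p E :=
  X.pre_pGroup.toSylow (by rw [X.pre_index]; exact P.not_dvd_index)

theorem mem_pre {w : E} : w ∈ (X.pre : Subgroup E) ↔ X.τ w ∈ (P : Subgroup G) := by
  simp [pre]

/-- Membership in the centre of the preimage. -/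
def InCore (w : E) : Prop :=
  w ∈ (X.pre : Subgroup E) ∧ ∀ v ∈ (X.pre : Subgroup E), v * w = w * v

theorem inCore_ker {z : E} (hz : z ∈ X.τ.ker) : X.InCore z :=
  ⟨X.mem_pre.2 (by rw [MonoidHom.mem_ker.1 hz]; exact (P : Subgroup G).one_mem),
    fun v _ => (X.comm_ker hz v).eq.symm⟩

theorem inCore_mul {a b : E} (ha : X.InCore a) (hb : X.InCore b) : X.InCore (a * b) :=
  ⟨(X.pre : Subgroup E).mul_mem ha.1 hb.1, fun v hv => by
    rw [← mul_assoc, ha.2 v hv, mul_assoc, hb.2 v hv, mul_assoc]⟩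

theorem inCore_inv {a : E} (ha : X.InCore a) : X.InCore a⁻¹ :=
  ⟨(X.pre : Subgroup E).inv_mem ha.1, fun v hv => ((show Commute v a from ha.2 v hv).inv_right).eq⟩

/-- Conjugation by an element over the normalizer preserves the centre of the preimage. -/
theorem inCore_conj {s : E} (hs : ∀ v, v ∈ (X.pre : Subgroup E) ↔ s * v * s⁻¹ ∈ (X.pre : Subgroup E)) {a : E} :
    X.InCore (s * a * s⁻¹) ↔ X.InCore a := by
  constructor
  · rintro ⟨h1, h2⟩
    refine ⟨(hs a).2 h1, fun v hv => ?_⟩
    have := h2 _ ((hs v).1 hv)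
    exact mul_left_cancel (a := s) (by simpa [← mul_assoc] using this)
  · rintro ⟨h1, h2⟩
    refine ⟨(hs a).1 h1, fun v hv => ?_⟩
    have := h2 (s⁻¹ * v * s) ((hs _).2 (by simpa [mul_assoc] using hv))
    calc v * (s * a * s⁻¹) = s * (s⁻¹ * v * s * a) * s⁻¹ := by group
      _ = s * (a * (s⁻¹ * v * s)) * s⁻¹ := by rw [this]
      _ = s * a * s⁻¹ * v := by group

/-- An element over the centralizer of the image of a central element centralizes it. -/
theorem commute_of_image (h : Hyp P) {a g : E} (ha : X.InCore a) (hg : Commute (X.τ g) (X.τ a)) :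
    Commute g a := by
  set H : Subgroup E := (Subgroup.centralizer ({X.τ a} : Set G)).comap X.τ with hH
  have hmemH : ∀ x, x ∈ H ↔ Commute (X.τ x) (X.τ a) := fun x => by
    simp [hH, Subgroup.mem_centralizer_singleton_iff, commute_iff_eq]
  have hz : ∀ x ∈ H, x * a * x⁻¹ * a⁻¹ ∈ X.τ.ker := fun x hx => by
    rw [MonoidHom.mem_ker, map_mul, map_mul, map_mul, ((hmemH x).1 hx).eq, map_inv, map_inv,
      mul_inv_cancel_right, mul_inv_cancel]
  have hle : (X.pre : Subgroup E) ≤ H := fun x hx => (hmemH x).2 (by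
    rw [commute_iff_eq]; exact h.comm _ (X.mem_pre.1 hx) _ (X.mem_pre.1 ha.1))
  have hgH : g ∈ H := (hmemH g).2 hg
  have hppH : pp p g ∈ H := H.pow_mem hgH _
  have hrpH : rp p g ∈ H := H.mul_mem (H.inv_mem hppH) hgH
  -- the regular part
  have h1 : Commute (rp p g) a := by
    set x := rp p g with hx
    set z := x * a * x⁻¹ * a⁻¹ with hzdef
    have hzk : z ∈ X.τ.ker := hz x hrpH
    have hiter : ∀ k : ℕ, x ^ k * a * (x ^ k)⁻¹ = z ^ k * a := by
      intro k
      induction k with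
      | zero => simp
      | succ k ih =>
        rw [pow_succ', mul_inv_rev]
        calc x * x ^ k * a * ((x ^ k)⁻¹ * x⁻¹) = x * (x ^ k * a * (x ^ k)⁻¹) * x⁻¹ := by group
          _ = x * (z ^ k * a) * x⁻¹ := by rw [ih]
          _ = z ^ k * (x * a * x⁻¹) := by
            rw [← mul_assoc x, ← ((X.comm_ker hzk x).pow_left k).eq]; simp only [mul_assoc]
          _ = z ^ k * (z * a) := by rw [show z * a = x * a * x⁻¹ by rw [hzdef, inv_mul_cancel_right]]
          _ = z ^ (k + 1) * a := by rw [pow_succ]; exact (mul_assoc _ _ _).symm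
    have hzm : z ^ orderOf x = 1 := by
      have := hiter (orderOf x)
      rw [pow_orderOf_eq_one, one_mul, inv_one, mul_one] at this
      exact (mul_eq_right.1 this.symm)
    have hz1 : z = 1 := eq_one_of_pEl_pReg (X.ker_pEl hzk)
      (Nat.Coprime.coprime_dvd_left (orderOf_dvd_of_pow_eq_one hzm) (isPReg_rp g))
    rw [hzdef, mul_inv_eq_one, mul_inv_eq_iff_eq_mul] at hz1
    exact hz1
  -- the p-part
  have h2 : Commute (pp p g) a := by
    obtain ⟨c, hc⟩ := exists_in_sylow (X.pre.subtype hle)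
      (x := (⟨pp p g, hppH⟩ : H)) (by obtain ⟨k, hk⟩ := isPEl_pp (p := p) g; exact ⟨k, Subtype.ext hk⟩)
    rw [Sylow.coe_subtype, Subgroup.mem_subgroupOf] at hc
    have e := ha.2 _ hc
    simp only [Subgroup.coe_mul, Subgroup.coe_inv] at e
    set z := (c : E)⁻¹ * a * (c : E) * a⁻¹ with hzdef
    have hzk : z ∈ X.τ.ker := by simpa [hzdef] using hz (c : E)⁻¹ (H.inv_mem c.2)
    have e' : pp p g * (z * a) = z * a * pp p g := by
      rw [show z * a = (c : E)⁻¹ * a * (c : E) by rw [hzdef]; group]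
      calc pp p g * ((c : E)⁻¹ * a * (c : E)) = (c : E)⁻¹ * ((c : E) * pp p g * (c : E)⁻¹ * a) * (c : E) := by group
        _ = (c : E)⁻¹ * (a * ((c : E) * pp p g * (c : E)⁻¹)) * (c : E) := by rw [e]
        _ = _ := by group
    have e'' : z * (pp p g * a) = z * (a * pp p g) := by
      rw [← mul_assoc, (X.comm_ker hzk (pp p g)).eq, mul_assoc, e', mul_assoc]
    exact mul_left_cancel e''
  have := h2.mul_left h1
  rwa [pp_mul_rp] at this

/-- The inverting element lifted, with its effect on the preimage. -/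
theorem exists_inverter (h : Hyp P) : ∃ s : E,
    (∀ v, v ∈ (X.pre : Subgroup E) ↔ s * v * s⁻¹ ∈ (X.pre : Subgroup E)) ∧
    ∀ v ∈ (X.pre : Subgroup E), X.τ (s * v * s⁻¹) = (X.τ v)⁻¹ := by
  obtain ⟨t, ht⟩ := h.inverter
  obtain ⟨s, hs⟩ := X.surj t
  have himg : ∀ v ∈ (X.pre : Subgroup E), X.τ (s * v * s⁻¹) = (X.τ v)⁻¹ := fun v hv => by
    rw [map_mul, map_mul, map_inv, hs, ht _ (X.mem_pre.1 hv)]
  have hfor : ∀ v ∈ (X.pre : Subgroup E), s * v * s⁻¹ ∈ (X.pre : Subgroup E) := fun v hv =>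
    X.mem_pre.2 (by rw [himg v hv]; exact (P : Subgroup G).inv_mem (X.mem_pre.1 hv))
  have hmap : (X.pre : Subgroup E).map (MulAut.conj s).toMonoidHom = (X.pre : Subgroup E) := by
    refine Subgroup.eq_of_le_of_card_ge ?_ (le_of_eq ?_)
    · rintro _ ⟨v, hv, rfl⟩; exact hfor v hv
    · exact Nat.card_congr ((X.pre : Subgroup E).equivMapOfInjective _ (MulAut.conj s).injective).toEquiv
  refine ⟨s, fun v => ⟨hfor v, fun hv => ?_⟩, himg⟩
  rw [← hmap] at hv
  obtain ⟨w, hw, e⟩ := hv
  rwa [← (MulAut.conj s).injective e]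

/-- The character of the preimage, extended by zero. -/
structure Wt (n : ℕ) (ψ : E → ℂ) : Prop where
  odd : Odd n
  gt : 1 < n
  off : ∀ w, ¬ X.InCore w → ψ w = 0
  norm_core : ∀ w, X.InCore w → ψ w * conj (ψ w) = (n : ℂ) ^ 2
  one : ψ 1 = n
  ker_mul : ∀ z ∈ X.τ.ker, ∀ w, ψ (z * w) = ψ z / (n : ℂ) * ψ w
  fused : ∀ a ∈ (X.pre : Subgroup E), ∀ g : E, g * a * g⁻¹ ∈ (X.pre : Subgroup E) → ψ (g * a * g⁻¹) = ψ a
  gen : IsGeneralizedCharacter (X.pre : Subgroup E) (fun w => ψ w)
  count : n ^ 2 * Nat.card {w : E // X.InCore w} = p * Nat.card (P : Subgroup G)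

theorem card_pre : Nat.card (X.pre : Subgroup E) = p * Nat.card (P : Subgroup G) := by
  have e1 : Nat.card E = p * Nat.card G := by
    rw [← Subgroup.card_mul_index X.τ.ker, X.card_ker, Subgroup.index_ker, MonoidHom.range_eq_top.2 X.surj,
      Subgroup.card_top]
  have e2 := Subgroup.card_mul_index (X.pre : Subgroup E)
  have e3 := Subgroup.card_mul_index (P : Subgroup G)
  have e4 : (X.pre : Subgroup E).index = (P : Subgroup G).index := by simpa [pre] using X.pre_index
  rw [e4, e1, ← e3, ← mul_assoc] at e2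
  exact Nat.eq_of_mul_eq_mul_right (Nat.pos_of_ne_zero Subgroup.index_ne_zero_of_finite) e2

theorem exists_wt (h : Hyp P) : ∃ (n : ℕ) (ψ : E → ℂ), X.Wt n ψ := by
  classical
  obtain ⟨s, hs, himg⟩ := X.exists_inverter h
  haveI := Fintype.ofFinite (X.pre : Subgroup E)
  haveI := Fintype.ofFinite X.τ.ker
  -- a faithful character of the kernel
  obtain ⟨lam, hlam⟩ : ∃ lam : IrrCharacter X.τ.ker, lam.1 ≠ fun _ => 1 := by
    by_contra hall
    push Not at hall
    haveI : Subsingleton (IrrCharacter X.τ.ker) :=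
      ⟨fun a b => Subtype.ext ((hall a).trans (hall b).symm)⟩
    have hdeg : ∀ a : IrrCharacter X.τ.ker, a.1 1 = 1 := fun a => by rw [hall a]
    have e := sum_irr_degree_sq (G := X.τ.ker)
    simp only [hdeg, one_pow, Finset.sum_const, Finset.card_univ, nsmul_eq_mul, mul_one, X.card_ker] at e
    have : Fintype.card (IrrCharacter X.τ.ker) = p := by exact_mod_cast e
    have h1 := Fintype.card_le_one_iff_subsingleton.2 (inferInstance : Subsingleton (IrrCharacter X.τ.ker))
    have := hp.out.two_le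
    omega
  obtain ⟨ω, hω⟩ := exists_hom_of_degree_one (isCharacter_of_irr lam.2)
    (degree_one_of_commutative (fun a b => Subtype.ext (X.comm_ker a.2 b).eq) lam.2)
  -- the centre of the preimage
  let C : Subgroup (X.pre : Subgroup E) := Subgroup.center _
  have hC : ∀ c : (X.pre : Subgroup E), c ∈ C ↔ X.InCore (c : E) := fun c =>
    ⟨fun hc => ⟨c.2, fun v hv => congrArg Subtype.val (Subgroup.mem_center_iff.1 hc ⟨v, hv⟩)⟩,
      fun hc => Subgroup.mem_center_iff.2 fun v => Subtype.ext (hc.2 v v.2)⟩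
  let sq : C → X.τ.ker := fun c => ⟨((c : (X.pre : Subgroup E)) : E) * (s * ((c : (X.pre : Subgroup E)) : E) * s⁻¹),
    by rw [MonoidHom.mem_ker, map_mul, himg _ (c : (X.pre : Subgroup E)).2, mul_inv_cancel]⟩
  let Λ : C →* ℂˣ :=
    { toFun := fun c => ω (sq c)
      map_one' := by
        rw [show sq 1 = 1 from Subtype.ext (by simp [sq]), map_one]
      map_mul' := fun c d => by
        rw [← map_mul]
        refine congrArg ω (Subtype.ext ?_)
        have hcd := ((hC _).1 d.2).2 _ ((hs _).1 (c : (X.pre : Subgroup E)).2)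
        simp only [sq, Subgroup.coe_mul]
        calc _ = ((c : (X.pre : Subgroup E)) : E) * (((d : (X.pre : Subgroup E)) : E) *
              (s * ((c : (X.pre : Subgroup E)) : E) * s⁻¹)) * (s * ((d : (X.pre : Subgroup E)) : E) * s⁻¹) := by group
          _ = _ := by rw [← hcd]; group }
  -- a constituent over it
  haveI := Fintype.ofFinite C
  set I := indFun C (fun c => (Λ c : ℂ)) with hI
  have hIchar : IsCharacter _ I := isCharacter_indFun C (isCharacter_of_irr (isIrrCharacter_linear Λ))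
  obtain ⟨χ, hχ⟩ : ∃ χ : IrrCharacter (X.pre : Subgroup E), classInner I χ.1 ≠ 0 := by
    by_contra hall
    push Not at hall
    have e : I = 0 := by
      rw [eq_sum_irr (isClassFunction_char hIchar)]
      simp [hall]
    have e1 := congrFun e 1
    rw [hI, indFun_apply_one] at e1
    simp [Subgroup.index_ne_zero_of_finite] at e1
  rw [hI, frobenius_reciprocity C _ (isClassFunction_irr χ.2)] at hχ
  obtain ⟨d, ρ, hρ, hρχ⟩ := χ.2
  haveI := hρ
  have hscal : ∀ c : C, ∀ w : (X.pre : Subgroup E),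
      χ.1 (c.1 * w) = (Λ c : ℂ) * χ.1 w := by
    intro c w
    obtain ⟨μ, hμ⟩ := exists_scalar_of_mem_center ρ c.2
    have hmul : ∀ w, χ.1 (c.1 * w) = μ * χ.1 w := fun w => by
      rw [← hρχ]
      simp only [Representation.character, map_mul, hμ, ← Module.End.one_eq_id, smul_mul_assoc, one_mul, map_smul, smul_eq_mul]
    -- compare
    have hshift : classInner (fun k : C => (Λ k : ℂ)) (fun k : C => χ.1 k) =
        (Λ c : ℂ) * conj μ * classInner (fun k : C => (Λ k : ℂ)) (fun k : C => χ.1 k) := by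
      simp only [classInner]
      rw [mul_left_comm]
      congr 1
      rw [Finset.mul_sum]
      refine (Fintype.sum_equiv (Equiv.mulLeft c) _ _ fun k => ?_).symm
      simp only [Equiv.coe_mulLeft, map_mul, Units.val_mul, Subgroup.coe_mul, hmul]
      ring
    have h1 : (Λ c : ℂ) * conj μ = 1 := by
      by_contra hne
      exact hχ ((mul_left_eq_self₀.1 hshift.symm).resolve_left hne)
    have hn : (Λ c : ℂ) * conj (Λ c : ℂ) = 1 := by
      have hfin : IsOfFinOrder c := isOfFinOrder_of_finite c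
      have : ‖(Λ c : ℂ)‖ = 1 := by
        refine Complex.norm_eq_one_of_pow_eq_one (n := orderOf c) ?_ (orderOf_pos c).ne'
        rw [← Units.val_pow_eq_pow_val, ← map_pow, pow_orderOf_eq_one, map_one, Units.val_one]
      rw [Complex.mul_conj, Complex.normSq_eq_norm_sq, this]; simp
    rw [hmul w]
    have hμΛ : μ = (Λ c : ℂ) := by
      have h1' := congrArg conj h1
      simp only [map_mul, Complex.conj_conj, map_one] at h1'
      linear_combination (Λ c : ℂ) * h1' - μ * hn
    rw [hμΛ]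
  obtain ⟨n, hnpos, hn⟩ := irr_degree_pos χ.2
  let ψ : E → ℂ := fun w => if hw : w ∈ (X.pre : Subgroup E) then χ.1 ⟨w, hw⟩ else 0
  have hψ : ∀ w : (X.pre : Subgroup E), ψ (w : E) = χ.1 w := fun w => by simp only [ψ, dif_pos w.2]
  have hcore : ∀ c : C, χ.1 (c : (X.pre : Subgroup E)) = (Λ c : ℂ) * n := fun c => by
    have := hscal c 1
    rwa [mul_one, hn] at this
  have hkerC : ∀ z (hz : z ∈ X.τ.ker), (⟨z, (X.inCore_ker hz).1⟩ : (X.pre : Subgroup E)) ∈ C :=
    fun z hz => (hC _).2 (X.inCore_ker hz)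
  have hinj : ∀ z (hz : z ∈ X.τ.ker), (Λ ⟨_, hkerC z hz⟩ : ℂ) = 1 → z = 1 := by
    intro z hz he
    have e : ω ⟨z * z, X.τ.ker.mul_mem hz hz⟩ = 1 := Units.ext (by
      rw [Units.val_one, ← he]
      show (ω _ : ℂ) = (ω (sq _) : ℂ)
      congr 2
      refine Subtype.ext ?_
      simp only [sq]
      rw [← (X.comm_ker hz s).eq, mul_inv_cancel_right])
    haveI : Fact (Nat.card X.τ.ker).Prime := ⟨by rw [X.card_ker]; exact hp.out⟩
    rcases ω.ker.eq_bot_or_eq_top_of_prime_card with hb | ht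
    · have hzz : z * z = 1 := congrArg Subtype.val ((ω.ker_eq_bot_iff.1 hb) (e.trans ω.map_one.symm))
      refine eq_one_of_pEl_pReg (X.ker_pEl hz)
        (Nat.Coprime.coprime_dvd_left (orderOf_dvd_of_pow_eq_one (by rw [pow_two]; exact hzz))
          ((Nat.coprime_primes Nat.prime_two hp.out).2 h.odd.symm))
    · refine absurd ?_ hlam
      rw [hω]
      funext w
      rw [show ω w = 1 from MonoidHom.mem_ker.1 (by rw [ht]; exact Subgroup.mem_top w), Units.val_one]
  have hoff : ∀ w : (X.pre : Subgroup E), w ∉ C → χ.1 w = 0 := by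
    intro w hw
    obtain ⟨v, hv⟩ := not_forall.1 fun hall => hw (Subgroup.mem_center_iff.2 hall)
    have hzk : ((v * w * v⁻¹ * w⁻¹ : (X.pre : Subgroup E)) : E) ∈ X.τ.ker := by
      simp only [Subgroup.coe_mul, Subgroup.coe_inv, MonoidHom.mem_ker, map_mul, map_inv]
      rw [h.comm _ (X.mem_pre.1 v.2) _ (X.mem_pre.1 w.2)]
      group
    set zc : C := ⟨_, hkerC _ hzk⟩ with hzc
    have e := hscal zc w
    have hcj : χ.1 ((zc : (X.pre : Subgroup E)) * w) = χ.1 w := by
      rw [show (zc : (X.pre : Subgroup E)) * w = v * w * v⁻¹ from inv_mul_cancel_right _ _]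
      exact isClassFunction_irr χ.2 w v
    rw [hcj] at e
    by_contra hne
    have h1 : (Λ zc : ℂ) = 1 := mul_right_cancel₀ hne (by rw [← e, one_mul])
    have := hinj _ hzk h1
    simp only [Subgroup.coe_mul, Subgroup.coe_inv, mul_inv_eq_one, mul_inv_eq_iff_eq_mul, one_mul] at this
    exact hv (Subtype.ext this)
  have hΛnorm : ∀ c : C, (Λ c : ℂ) * conj (Λ c : ℂ) = 1 := fun c => by
    have : ‖(Λ c : ℂ)‖ = 1 := by
      refine Complex.norm_eq_one_of_pow_eq_one (n := orderOf c) ?_ (orderOf_pos c).ne'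
      rw [← Units.val_pow_eq_pow_val, ← map_pow, pow_orderOf_eq_one, map_one, Units.val_one]
    rw [Complex.mul_conj, Complex.normSq_eq_norm_sq, this]; simp
  -- the degree
  have hcount : n ^ 2 * Nat.card C = p * Nat.card (P : Subgroup G) := by
    rw [← X.card_pre]
    have e := classInner_irr_self χ.2
    rw [classInner, inv_mul_eq_iff_eq_mul₀ (Nat.cast_ne_zero.2 Nat.card_pos.ne'), mul_one,
      ← Finset.sum_filter_add_sum_filter_not Finset.univ (· ∈ C),
      Finset.sum_eq_zero (s := Finset.univ.filter fun w => ¬ w ∈ C) (fun w hw => by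
        rw [hoff w (Finset.mem_filter.1 hw).2, zero_mul]), add_zero,
      Finset.sum_subtype _ (p := fun w => w ∈ C) (fun w => by simp),
      Finset.sum_congr (rfl : (Finset.univ : Finset C) = Finset.univ) fun c _ => show
        χ.1 (c : (X.pre : Subgroup E)) * conj (χ.1 (c : (X.pre : Subgroup E))) = (n : ℂ) ^ 2 by
          rw [hcore, map_mul, Complex.conj_natCast]; linear_combination (n : ℂ) ^ 2 * hΛnorm c,
      Finset.sum_const, Finset.card_univ, ← Nat.card_eq_fintype_card, nsmul_eq_mul] at e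
    have : ((n ^ 2 * Nat.card C : ℕ) : ℂ) = (Nat.card (X.pre : Subgroup E) : ℂ) := by
      rw [← e]; push_cast; ring
    exact_mod_cast this
  have hgt : 1 < n := by
    by_contra hle
    have hn1 : n = 1 := by omega
    obtain ⟨x, y, hx, hy, hxy⟩ := X.nonabelian
    have htop : C = ⊤ := Subgroup.eq_top_of_card_eq _ (by
      rw [X.card_pre, ← hcount, hn1, one_pow, one_mul])
    exact hxy (((hC ⟨y, X.mem_pre.2 hy⟩).1 (htop ▸ Subgroup.mem_top _)).2 x (X.mem_pre.2 hx))
  have hodd : Odd n := by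
    obtain ⟨k, hk⟩ := P.2.exists_card_eq
    have hd : n ∣ p ^ (k + 1) := by
      rw [pow_succ', ← hk, ← hcount]
      exact Dvd.dvd.mul_right (dvd_pow_self n two_ne_zero) _
    obtain ⟨i, -, rfl⟩ := (Nat.dvd_prime_pow hp.out).1 hd
    exact (hp.out.odd_of_ne_two h.odd).pow
  have hψC : ∀ (w : E) (hw : X.InCore w), ψ w = (Λ ⟨⟨w, hw.1⟩, (hC _).2 hw⟩ : ℂ) * n := fun w hw => by
    rw [show ψ w = χ.1 ⟨w, hw.1⟩ from hψ ⟨w, hw.1⟩]
    exact hcore ⟨⟨w, hw.1⟩, (hC _).2 hw⟩
  have hψoff : ∀ w, ¬ X.InCore w → ψ w = 0 := by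
    intro w hw
    by_cases hw' : w ∈ (X.pre : Subgroup E)
    · rw [show ψ w = χ.1 ⟨w, hw'⟩ from hψ ⟨w, hw'⟩]
      exact hoff _ fun hc => hw ((hC _).1 hc)
    · simp only [ψ, dif_neg hw']
  have hψinv : ∀ b, X.InCore b → ψ (s * b * s⁻¹) = ψ b := by
    intro b hb
    have hb' := (X.inCore_conj hs).2 hb
    rw [hψC _ hb', hψC _ hb]
    congr 1
    show (ω (sq _) : ℂ) = (ω (sq _) : ℂ)
    congr 2
    refine Subtype.ext ?_
    simp only [sq]
    have hzk : b * (s * b * s⁻¹) ∈ X.τ.ker := by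
      rw [MonoidHom.mem_ker, map_mul, himg _ hb.1, mul_inv_cancel]
    calc s * b * s⁻¹ * (s * (s * b * s⁻¹) * s⁻¹) = s * (b * (s * b * s⁻¹)) * s⁻¹ := by group
      _ = b * (s * b * s⁻¹) := by rw [← (X.comm_ker hzk s).eq, mul_inv_cancel_right]
  -- images of conjugates of central elements
  have hstep : ∀ a g : E, X.InCore a → g * a * g⁻¹ ∈ (X.pre : Subgroup E) →
      X.InCore (g * a * g⁻¹) ∧ ψ (g * a * g⁻¹) = ψ a := by
    intro a g ha hga
    rcases h.fusion (X.mem_pre.1 ha.1) (X.mem_pre.1 hga) (g := X.τ g) (by simp) with e | e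
    · have hg : Commute (X.τ g) (X.τ a) := by
        simp only [map_mul, map_inv] at e
        rwa [mul_inv_eq_iff_eq_mul] at e
      rw [(X.commute_of_image h ha hg).eq, mul_inv_cancel_right]
      exact ⟨ha, rfl⟩
    · have hg : Commute (X.τ (s * g)) (X.τ a) := by
        have e2 := himg _ hga
        rw [e, inv_inv] at e2
        have e3 : X.τ (s * g) * X.τ a * (X.τ (s * g))⁻¹ = X.τ a := by
          rw [← map_inv, ← map_mul, ← map_mul]
          conv_rhs => rw [← e2]
          congr 1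
          group
        rwa [mul_inv_eq_iff_eq_mul] at e3
      have e4 : s * (g * a * g⁻¹) * s⁻¹ = a := by
        rw [show s * (g * a * g⁻¹) * s⁻¹ = s * g * a * (s * g)⁻¹ by group,
          (X.commute_of_image h ha hg).eq, mul_inv_cancel_right]
      have hb : X.InCore (g * a * g⁻¹) := (X.inCore_conj hs).1 (by rw [e4]; exact ha)
      refine ⟨hb, ?_⟩
      rw [← hψinv _ hb, e4]
  refine ⟨n, ψ,
    { odd := hodd, gt := hgt, off := hψoff,
      norm_core := fun w hw => by
        rw [hψC w hw, map_mul, Complex.conj_natCast]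
        linear_combination (n : ℂ) ^ 2 * hΛnorm _
      one := by
        rw [show ψ 1 = χ.1 1 from hψ 1, hn]
      ker_mul := fun z hz w => ?_
      fused := fun a ha g hg => ?_
      gen := by
        rw [funext fun w : (X.pre : Subgroup E) => hψ w]
        exact isGenChar_of_char (isCharacter_of_irr χ.2)
      count := ?_ }⟩
  · have hn0 : (n : ℂ) ≠ 0 := Nat.cast_ne_zero.2 hnpos.ne'
    rw [hψC z (X.inCore_ker hz), mul_div_cancel_right₀ _ hn0]
    by_cases hw : w ∈ (X.pre : Subgroup E)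
    · rw [show ψ w = χ.1 ⟨w, hw⟩ from hψ ⟨w, hw⟩,
        show ψ (z * w) = χ.1 ⟨z * w, (X.pre : Subgroup E).mul_mem (X.inCore_ker hz).1 hw⟩ from
          hψ ⟨z * w, _⟩]
      exact hscal ⟨_, hkerC z hz⟩ ⟨w, hw⟩
    · have hzw : z * w ∉ (X.pre : Subgroup E) := fun hh => hw ((Subgroup.mul_mem_cancel_left _ (X.inCore_ker hz).1).1 hh)
      simp [ψ, dif_neg hw, dif_neg hzw]
  · by_cases haC : X.InCore a
    · exact (hstep a g haC hg).2
    · rw [hψoff a haC, hψoff _ fun hb => haC ?_]
      have := (hstep (g * a * g⁻¹) g⁻¹ hb (by simpa [mul_assoc] using ha)).1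
      simpa [mul_assoc] using this
  · rw [← hcount]
    congr 1
    exact Nat.card_congr
      { toFun := fun w => ⟨⟨w.1, w.2.1⟩, (hC _).2 w.2⟩
        invFun := fun c => ⟨((c : (X.pre : Subgroup E)) : E), (hC _).1 c.2⟩
        left_inv := fun _ => rfl
        right_inv := fun _ => rfl }

end ExtData

end CfsgLib.SmithTyrer
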