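import Cfsg.Agent.Lib.SmithTyrer.Setup
import Cfsg.Agent.Lib.TransferExtension
import Mathlib.GroupTheory.FiniteAbelian.Basic

/-!
A stem extension with kernel of order `p`, transferred from the Sylow subgroup.
-/

set_option autoImplicit false
set_option linter.unusedSectionVars false

namespace CfsgLib.SmithTyrer

open Cfsg
open scoped Pointwise

universe u

variable {p : ℕ} [hp : Fact p.Prime]

/-- The Heisenberg-type central extension by two additive functions. -/
structure Heis {S : Type u} [Group S] (U V : S →* Multiplicative (ZMod p)) : Type u where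
  /-- The image. -/
  a : S
  /-- The central coordinate. -/
  z : ZMod p

namespace Heis

variable {S : Type u} [Group S] {U V : S →* Multiplicative (ZMod p)}

theorem ext' {x y : Heis U V} (ha : x.a = y.a) (hz : x.z = y.z) : x = y := by
  cases x; cases y; subst ha hz; rfl

noncomputable instance : Mul (Heis U V) :=
  ⟨fun x y => ⟨x.a * y.a, x.z + y.z + (U x.a).toAdd * (V y.a).toAdd⟩⟩

theorem mul_a (x y : Heis U V) : (x * y).a = x.a * y.a := rfl

theorem mul_z (x y : Heis U V) : (x * y).z = x.z + y.z + (U x.a).toAdd * (V y.a).toAdd := rfl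

noncomputable instance : One (Heis U V) := ⟨⟨1, 0⟩⟩

theorem one_a : (1 : Heis U V).a = 1 := rfl

theorem one_z : (1 : Heis U V).z = 0 := rfl

noncomputable instance : Inv (Heis U V) := ⟨fun x => ⟨x.a⁻¹, -x.z + (U x.a).toAdd * (V x.a).toAdd⟩⟩

noncomputable instance instGroup : Group (Heis U V) :=
  Group.ofLeftAxioms
    (fun x y w => ext' (mul_assoc _ _ _) (by simp only [mul_z, mul_a, map_mul, toAdd_mul]; ring))
    (fun x => ext' (one_mul _) (by simp [mul_z, one_z, one_a]))
    (fun x => ext' (inv_mul_cancel x.a) (by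
      show -x.z + (U x.a).toAdd * (V x.a).toAdd + x.z + (U x.a⁻¹).toAdd * (V x.a).toAdd = 0
      rw [map_inv, toAdd_inv]; ring))

noncomputable instance [Finite S] : Finite (Heis U V) :=
  Finite.of_equiv (S × ZMod p) ⟨fun x => ⟨x.1, x.2⟩, fun x => (x.a, x.z), fun _ => rfl, fun _ => rfl⟩

end Heis

variable {G : Type u} [Group G] [Finite G] {P : Sylow p G}

/-- Two independent functionals on a noncyclic abelian `p`-group. -/
theorem Hyp.exists_functionals (h : Hyp P) :
    ∃ (U V : ↥(P : Subgroup G) →* Multiplicative (ZMod p)) (g k : (P : Subgroup G)),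
      (U g).toAdd = 1 ∧ (V g).toAdd = 0 ∧ (U k).toAdd = 0 ∧ (V k).toAdd = 1 := by
  classical
  letI : CommGroup (P : Subgroup G) :=
    { (inferInstance : Group (P : Subgroup G)) with mul_comm := fun a b => Subtype.ext (h.comm a a.2 b b.2) }
  obtain ⟨ι, _, n, hn, ⟨e⟩⟩ := CommGroup.equiv_prod_multiplicative_zmod_of_finite (P : Subgroup G)
  have hdvd : ∀ i, p ∣ n i := by
    intro i
    haveI : Fact (1 < n i) := ⟨hn i⟩
    have hone : (Multiplicative.ofAdd (1 : ZMod (n i))) ≠ 1 := by simp
    have hx : orderOf (e.symm (Pi.mulSingle i (Multiplicative.ofAdd (1 : ZMod (n i))))) = n i := by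
      rw [MulEquiv.orderOf_eq]
      refine (orderOf_injective (MonoidHom.mulSingle (fun j => Multiplicative (ZMod (n j))) i)
        (fun a b hab => by simpa using congrFun hab i) _).trans ?_
      rw [orderOf_ofAdd_eq_addOrderOf, ZMod.addOrderOf_one]
    obtain ⟨k, hk⟩ := IsPGroup.iff_orderOf.1 P.2 (e.symm (Pi.mulSingle i (Multiplicative.ofAdd (1 : ZMod (n i)))))
    rw [hx] at hk
    rw [hk]
    exact dvd_pow_self p fun h0 => by
      rw [h0, pow_zero] at hk
      exact absurd hk (ne_of_gt (hn i))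
  obtain ⟨i, j, hij⟩ : ∃ i j : ι, i ≠ j := by
    by_contra hall
    push Not at hall
    refine h.noncyclic ?_
    rcases isEmpty_or_nonempty ι with hι | ⟨⟨i⟩⟩
    · haveI : Subsingleton (P : Subgroup G) := e.toEquiv.subsingleton
      exact inferInstance
    · haveI : Unique ι := ⟨⟨i⟩, fun j => hall j i⟩
      haveI : NeZero (n default) := ⟨(by have := hn (default : ι); omega)⟩
      exact isCyclic_of_surjective ((e.trans (MulEquiv.piUnique fun i => Multiplicative (ZMod (n i)))).symm.toMonoidHom)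
        (e.trans (MulEquiv.piUnique fun i => Multiplicative (ZMod (n i)))).symm.surjective
  let proj : ∀ l : ι, ↥(P : Subgroup G) →* Multiplicative (ZMod p) := fun l =>
    (((ZMod.castHom (hdvd l) (ZMod p)).toAddMonoidHom.toMultiplicative).comp
      (Pi.evalMonoidHom (fun l => Multiplicative (ZMod (n l))) l)).comp e.toMonoidHom
  refine ⟨proj i, proj j, e.symm (Pi.mulSingle i (Multiplicative.ofAdd 1)),
    e.symm (Pi.mulSingle j (Multiplicative.ofAdd 1)), ?_, ?_, ?_, ?_⟩
  all_goals simp [proj, Pi.mulSingle_eq_of_ne hij, Pi.mulSingle_eq_of_ne hij.symm, ZMod.cast_one (hdvd i), ZMod.cast_one (hdvd j)]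

theorem exists_orbit_reps {K X : Type*} [Group K] [MulAction K X] :
    ∃ r : X → X, (∀ x, ∃ a : K, a • r x = x) ∧ ∀ (a : K) (x : X), r (a • x) = r x := by
  refine ⟨fun x => (Quotient.mk (MulAction.orbitRel K X) x).out, fun x => ?_, fun a x => ?_⟩
  · have h := Quotient.mk_out (s := MulAction.orbitRel K X) x
    obtain ⟨b, hb⟩ := (MulAction.orbitRel_apply.1 h : _)
    exact ⟨b⁻¹, inv_smul_eq_iff.2 hb.symm⟩
  · exact congrArg Quotient.out (Quotient.sound (MulAction.orbitRel_apply.2 ⟨a, rfl⟩))

theorem sum_quadratic {X : Type*} [Fintype X] {R : Type*} [CommRing R] (σ ρ : Equiv.Perm X)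
    (hc : ∀ x, σ (ρ x) = ρ (σ x)) (e F F' : X → R) (hσ : ∀ x, e (σ x) = e x) (hρ : ∀ x, e (ρ x) = e x)
    (he : ∀ x, e x * e x = 1) (a b c d : R) :
    ∑ x, ((e (ρ x) * a + F (σ (ρ x)) - F (ρ x)) * (e x * b + F' (ρ x) - F' x) -
        (e (σ x) * c + F (ρ (σ x)) - F (σ x)) * (e x * d + F' (σ x) - F' x)) =
      (Fintype.card X : R) * (a * b - c * d) := by
  have key : ∀ (π : Equiv.Perm X), (∀ x, e (π x) = e x) → ∀ H : X → R, ∑ x, e x * H (π x) = ∑ x, e x * H x :=
    fun π hπ H => Fintype.sum_equiv π _ _ fun x => by rw [hπ]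
  have shift : ∀ (π : Equiv.Perm X) (H : X → R), ∑ x, H (π x) = ∑ x, H x := fun π H => Equiv.sum_comp π H
  have t1 := shift ρ (fun y => F (σ y) * F' y)
  have t2 := shift σ (fun y => F (ρ y) * F' y)
  have t3 := shift ρ (fun y => F y * F' y)
  have t4 := shift σ (fun y => F y * F' y)
  have t5 : ∑ x, F (σ (ρ x)) * F' x = ∑ x, F (ρ (σ x)) * F' x := by simp only [hc]
  have k1 := key σ hσ F'
  have k2 := key ρ hρ F'
  have k5 : ∑ x, e x * F (σ (ρ x)) = ∑ x, e x * F x :=
    (key ρ hρ fun y => F (σ y)).trans (key σ hσ F)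
  have k6 : ∑ x, e x * F (ρ (σ x)) = ∑ x, e x * F x :=
    (key σ hσ fun y => F (ρ y)).trans (key ρ hρ F)
  have k3 := key σ hσ F
  have k4 := key ρ hρ F
  have hexp : ∀ x, ((e (ρ x) * a + F (σ (ρ x)) - F (ρ x)) * (e x * b + F' (ρ x) - F' x) -
        (e (σ x) * c + F (ρ (σ x)) - F (σ x)) * (e x * d + F' (σ x) - F' x)) =
      (a * b - c * d) + a * (e x * F' (ρ x)) - a * (e x * F' x) + b * (e x * F (σ (ρ x))) - b * (e x * F (ρ x)) -
        c * (e x * F' (σ x)) + c * (e x * F' x) - d * (e x * F (ρ (σ x))) + d * (e x * F (σ x)) +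
        F (σ (ρ x)) * F' (ρ x) - F (σ (ρ x)) * F' x - F (ρ x) * F' (ρ x) + F (ρ x) * F' x -
        F (ρ (σ x)) * F' (σ x) + F (ρ (σ x)) * F' x + F (σ x) * F' (σ x) - F (σ x) * F' x := fun x => by
    rw [hσ, hρ]; linear_combination (a * b - c * d) * he x
  simp only [hexp, Finset.sum_add_distrib, Finset.sum_sub_distrib, ← Finset.mul_sum, Finset.sum_const,
    Finset.card_univ, nsmul_eq_mul]
  rw [k1, k2, k3, k4, k5, k6, t1, t2, t3, t4, t5]
  ring

/-- The Smith–Tyrer configuration has a stem extension with kernel of order `p`. -/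
theorem Hyp.exists_ext (h : Hyp P) : ∃ (E : Type u) (_ : Group E) (_ : Finite E) (τ : E →* G),
    Cfsg.IsStemExtension τ ∧ Nat.card τ.ker = p := by
  classical
  set X := G ⧸ (P : Subgroup G)
  set n := Nat.card X with hn
  let e : X ≃ Fin n := Finite.equivFin X
  letI : MulAction G (Fin n) :=
    { smul := fun g i => e (g • e.symm i)
      one_smul := fun i => by show e ((1 : G) • e.symm i) = i; rw [one_smul, e.apply_symm_apply]
      mul_smul := fun a b i => by
        show e ((a * b) • e.symm i) = e (a • e.symm (e (b • e.symm i)))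
        rw [e.symm_apply_apply, mul_smul] }
  let x₀ : Fin n := e ((1 : G) : X)
  let t : Fin n → G := fun x => (e.symm x).out
  have ht : ∀ x, t x • x₀ = x := fun x => by
    show e ((e.symm x).out • e.symm (e ((1 : G) : X))) = x
    rw [e.symm_apply_apply, MulAction.Quotient.smul_coe, smul_eq_mul, mul_one, QuotientGroup.out_eq',
      e.apply_symm_apply]
  have hstab : ∀ g : G, g ∈ MulAction.stabilizer G x₀ ↔ g ∈ (P : Subgroup G) := fun g => by
    rw [MulAction.mem_stabilizer_iff]
    show e (g • e.symm (e ((1 : G) : X))) = e ((1 : G) : X) ↔ _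
    rw [e.symm_apply_apply, e.apply_eq_iff_eq, MulAction.Quotient.smul_coe, smul_eq_mul, mul_one,
      QuotientGroup.eq, mul_one]
    exact inv_mem_iff
  let toP : MulAction.stabilizer G x₀ →* (P : Subgroup G) :=
    { toFun := fun g => ⟨g, (hstab g).1 g.2⟩
      map_one' := rfl
      map_mul' := fun _ _ => rfl }
  obtain ⟨U, V, g, k, hUg, hVg, hUk, hVk⟩ := h.exists_functionals
  let U' := U.comp toP
  let V' := V.comp toP
  let π : Heis U' V' →* MulAction.stabilizer G x₀ := { toFun := Heis.a, map_one' := rfl, map_mul' := fun _ _ => rfl }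
  have hπ : Function.Surjective π := fun s => ⟨⟨s, 0⟩, rfl⟩
  have hc : π.ker ≤ Subgroup.center (Heis U' V') := fun x hx => Subgroup.mem_center_iff.2 fun y => by
    have hxa : x.a = 1 := hx
    refine Heis.ext' ?_ ?_
    · rw [Heis.mul_a, Heis.mul_a, hxa, one_mul, mul_one]
    · simp only [Heis.mul_z, hxa, map_one, toAdd_one]; ring
  let χ : π.ker →* Multiplicative (ZMod p) :=
    { toFun := fun x => Multiplicative.ofAdd (x : Heis U' V').z
      map_one' := rfl
      map_mul' := fun x y => by
        rw [← ofAdd_add]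
        refine congrArg Multiplicative.ofAdd ?_
        show ((x : Heis U' V') * y).z = _
        rw [Heis.mul_z, show (x : Heis U' V').a = 1 from x.2, map_one, toAdd_one, zero_mul, add_zero] }
  -- orbit signs
  obtain ⟨r, hr, hrinv⟩ := exists_orbit_reps (K := (P : Subgroup G)) (X := Fin n)
  choose a ha using hr
  let ε : Fin n → ZMod p := fun x =>
    if ∀ b ∈ (P : Subgroup G), (t (r x))⁻¹ * b * t (r x) ∈ (P : Subgroup G) → (t (r x))⁻¹ * b * t (r x) = b
    then 1 else -1
  let c : ↥(P : Subgroup G) → Fin n → ↥(P : Subgroup G) := fun b x => toP (TransferExt.comp x₀ ht (b : G) x)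
  have hcmul : ∀ b b' x, c (b * b') x = c b ((b' : G) • x) * c b' x := fun b b' x => by
    show toP (TransferExt.comp x₀ ht ((b : G) * b') x) = _
    rw [TransferExt.comp_mul, map_mul]
  have hε : ∀ (W : ↥(P : Subgroup G) →* Multiplicative (ZMod p)) (x : Fin n) (s : (P : Subgroup G)),
      (s : G) • r x = r x → (W (c s (r x))).toAdd = ε x * (W s).toAdd := by
    intro W x s hs
    have hval : (c s (r x) : G) = (t (r x))⁻¹ * s * t (r x) := by
      show (TransferExt.comp x₀ ht (s : G) (r x) : G) = _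
      simp [TransferExt.comp, hs, mul_assoc]
    have hmem : (t (r x))⁻¹ * s * t (r x) ∈ (P : Subgroup G) := hval ▸ (c s (r x)).2
    simp only [ε]
    split_ifs with hall
    · rw [show c s (r x) = s from Subtype.ext (hval.trans (hall _ s.2 hmem)), one_mul]
    · rcases h.exists_sign (t (r x))⁻¹ with hs' | hs'
      · exact absurd (fun b hb hb' => by simpa using hs' b hb (by simpa using hb')) hall
      · rw [show c s (r x) = s⁻¹ from Subtype.ext (hval.trans (by simpa using hs' s s.2 (by simpa using hmem))),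
          map_inv, toAdd_inv, neg_one_mul]
  have hεinv : ∀ (b : (P : Subgroup G)) x, ε ((b : G) • x) = ε x := fun b x => by
    have := hrinv b x
    simp only [Subgroup.smul_def] at this
    simp only [ε, this]
  let F : (↥(P : Subgroup G) →* Multiplicative (ZMod p)) → Fin n → ZMod p := fun W x =>
    (W (c (a x) (r x))).toAdd - ε x * (W (a x)).toAdd
  have hcoc : ∀ (W : ↥(P : Subgroup G) →* Multiplicative (ZMod p)) b x,
      (W (c b x)).toAdd = ε x * (W b).toAdd + F W ((b : G) • x) - F W x := by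
    intro W b x
    have hr' : r ((b : G) • x) = r x := hrinv b x
    have hax : ((a x : (P : Subgroup G)) : G) • r x = x := ha x
    set s := (a ((b : G) • x))⁻¹ * (b * a x) with hs
    have hsfix : (s : G) • r x = r x := by
      rw [hs, Subgroup.coe_mul, Subgroup.coe_inv, Subgroup.coe_mul, mul_smul, mul_smul, hax, inv_smul_eq_iff,
        ← hr']
      exact (ha ((b : G) • x)).symm
    have e1 := hcmul b (a x) (r x)
    rw [hax] at e1
    have e2 := hcmul (a ((b : G) • x)) s (r x)
    rw [hsfix, hs, mul_inv_cancel_left, ← hs, e1] at e2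
    have e3 := congrArg (fun y => (W y).toAdd) e2
    simp only [map_mul, toAdd_mul, hε W x s hsfix] at e3
    simp only [hs, map_mul, toAdd_mul, map_inv, toAdd_inv] at e3
    simp only [F, hεinv b x, hr']
    linear_combination e3
  have hgk : (g : G) * k = (k : G) * g := h.comm g g.2 k k.2
  let v : Fin n → Heis U' V' := fun x => ⟨TransferExt.comp x₀ ht (g : G) x, 0⟩
  let w : Fin n → Heis U' V' := fun x => ⟨TransferExt.comp x₀ ht (k : G) x, 0⟩
  let D : Fin n → ZMod p := fun x => (v ((k : G) • x) * w x).z - (w ((g : G) • x) * v x).z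
  let d : Fin n → Heis U' V' := fun x => ⟨1, D x⟩
  have hd : ∀ x, v ((k : G) • x) * w x = d x * (w ((g : G) • x) * v x) := fun x => by
    refine Heis.ext' ?_ ?_
    · simp only [Heis.mul_a, d, v, w, one_mul]
      rw [← TransferExt.comp_mul, ← TransferExt.comp_mul, hgk]
    · rw [Heis.mul_z (d x)]
      simp only [d, map_one, toAdd_one, zero_mul, add_zero, D, sub_add_cancel]
  refine TransferExt.exists_stem x₀ (ht := ht) (π := π) hπ hc χ (g : G) (k : G) hgk v w d (fun x => rfl)
    (fun x => rfl) hd (fun x => ⟨d x, rfl⟩) (fun x => rfl) ?_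
  have hprod : ∏ x, χ ⟨d x, rfl⟩ = Multiplicative.ofAdd (∑ x, D x) := (ofAdd_sum _ _).symm
  rw [hprod]
  have hD : ∀ x, D x = (U (c g ((k : G) • x))).toAdd * (V (c k x)).toAdd -
      (U (c k ((g : G) • x))).toAdd * (V (c g x)).toAdd := fun x => by
    simp only [D, Heis.mul_z, v, w, U', V', c, MonoidHom.comp_apply, zero_add]
  have hsum : ∑ x, D x = (n : ZMod p) := by
    simp only [hD, hcoc]
    have := sum_quadratic (MulAction.toPerm (g : G) : Equiv.Perm (Fin n)) (MulAction.toPerm (k : G))
      (fun x => by simp [← mul_smul, hgk]) ε (F U) (F V) (hεinv g) (hεinv k)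
      (fun x => by simp only [ε]; split_ifs <;> ring) (U g).toAdd (V k).toAdd (U k).toAdd (V g).toAdd
    simp only [MulAction.toPerm_apply, Fintype.card_fin, hUg, hVg, hUk, hVk] at this
    simp only [hUg, hVg, hUk, hVk]
    rw [this]; ring
  rw [hsum]
  intro h0
  have hndiv : ¬ p ∣ n := by
    rw [hn, ← Subgroup.index_eq_card]
    exact P.not_dvd_index
  exact hndiv ((ZMod.natCast_eq_zero_iff n p).1 (Multiplicative.ofAdd.injective h0))

/-- The preimage of the Sylow subgroup in a stem extension by a group of order `p` is not abelian. -/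
theorem preimage_not_comm (P : Sylow p G) {E : Type u} [Group E] [Finite E] {τ : E →* G}
    (hτ : Cfsg.IsStemExtension τ) (hk : Nat.card τ.ker = p) :
    ∃ x y : E, τ x ∈ (P : Subgroup G) ∧ τ y ∈ (P : Subgroup G) ∧ x * y ≠ y * x := by
  classical
  by_contra hall
  push Not at hall
  let S : Subgroup E := (P : Subgroup G).comap τ
  haveI : S.FiniteIndex := inferInstance
  letI : CommGroup S :=
    { (inferInstance : Group S) with mul_comm := fun a b => Subtype.ext (hall a b a.2 b.2) }
  have hindex : S.index = (P : Subgroup G).index := Subgroup.index_comap_of_surjective _ hτ.1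
  have hcomm : commutator E ≤ (MonoidHom.transfer (MonoidHom.id S)).ker := Abelianization.commutator_subset_ker _
  have hz : ∀ z ∈ τ.ker, z ^ S.index = 1 := by
    intro z hz
    have e := MonoidHom.transfer_eq_pow (MonoidHom.id S) z fun k g₀ hmem => by
      rw [(Subgroup.mem_center_iff.1 ((Subgroup.center E).pow_mem (hτ.2.1 hz) k) g₀⁻¹), inv_mul_cancel_right]
    rw [show MonoidHom.transfer (MonoidHom.id S) z = 1 from hcomm (hτ.2.2 hz)] at e
    exact (congrArg Subtype.val e).symm
  haveI : Nontrivial τ.ker := Finite.one_lt_card_iff_nontrivial.1 (hk ▸ hp.out.one_lt)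
  obtain ⟨⟨z, hzm⟩, hz1⟩ := exists_ne (1 : τ.ker)
  have h1 : orderOf z ∣ p := hk ▸ Subgroup.orderOf_dvd_natCard τ.ker hzm
  have h2 : orderOf z ∣ (P : Subgroup G).index := hindex ▸ orderOf_dvd_of_pow_eq_one (hz z hzm)
  have := Nat.dvd_gcd h1 h2
  rw [Nat.coprime_iff_gcd_eq_one.1 ((hp.out.coprime_iff_not_dvd).2 P.not_dvd_index), Nat.dvd_one,
    orderOf_eq_one_iff] at this
  exact hz1 (Subtype.ext this)

end CfsgLib.SmithTyrer
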