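import Cfsg.Agent.Lib.SmithTyrer.Setup
import Cfsg.Agent.Lib.CharTheory.CoherenceExt

/-!
Functions of the `p`-part, sums over regular and singular elements.
-/

set_option autoImplicit false
set_option linter.unusedSectionVars false

namespace CfsgLib.SmithTyrer

open Cfsg CfsgLib.CharTheory
open scoped ComplexConjugate

universe u

variable {p : ℕ} [hp : Fact p.Prime] {G : Type u} [Group G]

open Classical in
/-- Extension of a function on the Sylow subgroup along conjugation. -/
noncomputable def fuse (P : Sylow p G) (φ : G → ℂ) (x : G) : ℂ :=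
  if h : ∃ c : G, c * x * c⁻¹ ∈ (P : Subgroup G) then φ (h.choose * x * h.choose⁻¹) else 0

variable {P : Sylow p G}

theorem fuse_of_mem {φ : G → ℂ}
    (hφ : ∀ a ∈ (P : Subgroup G), ∀ g : G, g * a * g⁻¹ ∈ (P : Subgroup G) → φ (g * a * g⁻¹) = φ a)
    {x : G} (hx : x ∈ (P : Subgroup G)) : fuse P φ x = φ x := by
  classical
  have h : ∃ c : G, c * x * c⁻¹ ∈ (P : Subgroup G) := ⟨1, by simpa using hx⟩
  rw [fuse, dif_pos h]
  exact hφ x hx _ h.choose_spec

theorem fuse_classFun {φ : G → ℂ}
    (hφ : ∀ a ∈ (P : Subgroup G), ∀ g : G, g * a * g⁻¹ ∈ (P : Subgroup G) → φ (g * a * g⁻¹) = φ a) :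
    IsClassFunction G (fuse P φ) := by
  classical
  intro x k
  by_cases h : ∃ c : G, c * x * c⁻¹ ∈ (P : Subgroup G)
  · have h' : ∃ c : G, c * (k * x * k⁻¹) * c⁻¹ ∈ (P : Subgroup G) := by
      obtain ⟨c, hc⟩ := h
      exact ⟨c * k⁻¹, by simpa [mul_assoc] using hc⟩
    rw [fuse, fuse, dif_pos h', dif_pos h]
    have e : h'.choose * (k * x * k⁻¹) * h'.choose⁻¹ =
        (h'.choose * k * h.choose⁻¹) * (h.choose * x * h.choose⁻¹) * (h'.choose * k * h.choose⁻¹)⁻¹ := by group
    rw [e]
    exact hφ _ h.choose_spec _ (e ▸ h'.choose_spec)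
  · have h' : ¬ ∃ c : G, c * (k * x * k⁻¹) * c⁻¹ ∈ (P : Subgroup G) := fun ⟨c, hc⟩ =>
      h ⟨c * k, by simpa [mul_assoc] using hc⟩
    rw [fuse, fuse, dif_neg h', dif_neg h]

/-- The function of the `p`-part attached to a fused function is a generalized character. -/
theorem isGenChar_lift [Finite G] {φ : G → ℂ}
    (hφ : ∀ a ∈ (P : Subgroup G), ∀ g : G, g * a * g⁻¹ ∈ (P : Subgroup G) → φ (g * a * g⁻¹) = φ a)
    (hP : IsGeneralizedCharacter (P : Subgroup G) (fun x => φ x)) :
    IsGeneralizedCharacter G (fun g => fuse P φ (pp p g)) :=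
  isGenChar_of_pp (fuse_classFun hφ) P
    ((funext fun x : (P : Subgroup G) => (fuse_of_mem hφ x.2).symm) ▸ hP)

section Sums

variable [Fintype G]

open Classical in
/-- The regular elements. -/
noncomputable def regs (p : ℕ) [Fact p.Prime] (G : Type u) [Group G] [Fintype G] : Finset G :=
  Finset.univ.filter fun g => pp p g = 1

theorem mem_regs {g : G} : g ∈ regs p G ↔ pp p g = 1 := by
  classical simp [regs]

/-- Splitting a sum into regular and singular elements. -/
theorem Hyp.sum_split (h : Hyp P) {F : G → ℂ} (hF : IsClassFunction G F) :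
    ∑ g : G, F g = ∑ g ∈ regs p G, F g +
      (Nat.card G : ℂ) / (2 * (Nat.card (P : Subgroup G) : ℂ)) * ∑ y ∈ punct P, avg P F y := by
  classical
  rw [← Finset.sum_filter_add_sum_filter_not Finset.univ (fun g => pp p g = 1) F]
  congr 1
  have hq : (2 : ℂ) * (Nat.card (P : Subgroup G) : ℂ) ≠ 0 :=
    mul_ne_zero two_ne_zero (Nat.cast_ne_zero.2 Nat.card_pos.ne')
  rw [div_mul_eq_mul_div, eq_div_iff hq, ← h.sum_singular hF, mul_comm]

theorem avg_congr {F H : G → ℂ} {y : G} (e : ∀ s ∈ regCent p y, F (y * s) = H (y * s)) :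
    avg P F y = avg P H y := by
  simp only [avg]; rw [Finset.sum_congr rfl e]

theorem avg_add (F H : G → ℂ) (y : G) : avg P (fun g => F g + H g) y = avg P F y + avg P H y := by
  simp only [avg, Finset.sum_add_distrib]; ring

theorem avg_mul_left (c : ℂ) (F : G → ℂ) (y : G) : avg P (fun g => c * F g) y = c * avg P F y := by
  simp only [avg, ← Finset.mul_sum]; ring

theorem avg_sub (F H : G → ℂ) (y : G) : avg P (fun g => F g - H g) y = avg P F y - avg P H y := by
  simp only [avg, Finset.sum_sub_distrib]; ring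

theorem avg_conj (F : G → ℂ) (y : G) : avg P (fun g => conj (F g)) y = conj (avg P F y) := by
  simp only [avg, map_mul, map_div₀, Complex.conj_natCast, map_sum]

theorem Hyp.avg_of_const (h : Hyp P) {F : G → ℂ} {y : G} (hy : y ∈ (P : Subgroup G)) (hy1 : y ≠ 1) {c : ℂ}
    (e : ∀ s ∈ regCent p y, F (y * s) = c) : avg P F y = c := by
  have hc := congrArg (fun n : ℕ => (n : ℂ)) (h.card_regCent hy hy1)
  simp only [Nat.cast_mul] at hc
  have hC : (Nat.card (Subgroup.centralizer ({y} : Set G)) : ℂ) ≠ 0 := Nat.cast_ne_zero.2 Nat.card_pos.ne'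
  rw [avg, Finset.sum_congr rfl e, Finset.sum_const, nsmul_eq_mul]
  field_simp
  linear_combination c * hc

/-- A function of the `p`-part comes out of the average. -/
theorem avg_pp_mul {P : Sylow p G} (Φ F : G → ℂ) {y : G} (hy : y ∈ (P : Subgroup G)) :
    avg P (fun g => Φ (pp p g) * F g) y = Φ y * avg P F y := by
  rw [← avg_mul_left]
  refine avg_congr fun s hs => ?_
  show Φ (pp p (y * s)) * _ = _
  rw [pp_mul (mem_regCent.1 hs).2.symm (isPEl_of_mem P.2 hy) (mem_regCent.1 hs).1]

theorem Hyp.avg_pp (h : Hyp P) (Φ : G → ℂ) {y : G} (hy : y ∈ (P : Subgroup G)) (hy1 : y ≠ 1) :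
    avg P (fun g => Φ (pp p g)) y = Φ y :=
  h.avg_of_const hy hy1 fun s hs => by
    rw [pp_mul (mem_regCent.1 hs).2.symm (isPEl_of_mem P.2 hy) (mem_regCent.1 hs).1]

/-- The average does not change on inverting the element. -/
theorem Hyp.avg_inv (h : Hyp P) {F : G → ℂ} (hF : IsClassFunction G F) {y : G} (hy : y ∈ (P : Subgroup G)) :
    avg P F y⁻¹ = avg P F y := by
  obtain ⟨n, hn⟩ := h.inverter
  have e := hn y hy
  have hC : Subgroup.centralizer ({y⁻¹} : Set G) = Subgroup.centralizer ({y} : Set G) := by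
    ext z
    simp only [Subgroup.mem_centralizer_singleton_iff]
    exact ⟨fun hz => by simpa using (Commute.inv_right (show Commute z y⁻¹ from hz)).eq,
      fun hz => ((show Commute z y from hz).inv_right).eq⟩
  rw [avg, avg, hC]
  congr 1
  refine Finset.sum_bij' (fun s _ => n⁻¹ * s * n) (fun s _ => n * s * n⁻¹) ?_ ?_
    (fun s _ => by group) (fun s _ => by group) ?_
  · intro s hs
    obtain ⟨h1, h2⟩ := mem_regCent.1 hs
    refine mem_regCent.2 ⟨by simpa [MulAut.conj_apply] using h1.map (MulAut.conj n⁻¹).toMonoidHom, ?_⟩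
    have := h2.map (MulAut.conj n⁻¹).toMonoidHom
    rw [← e] at this
    simpa [MulAut.conj_apply, mul_assoc] using this
  · intro s hs
    obtain ⟨h1, h2⟩ := mem_regCent.1 hs
    refine mem_regCent.2 ⟨h1.map (MulAut.conj n).toMonoidHom, ?_⟩
    have := h2.map (MulAut.conj n).toMonoidHom
    simpa [MulAut.conj_apply, e] using this
  · intro s _
    have := hF (y * (n⁻¹ * s * n)) n
    rw [show n * (y * (n⁻¹ * s * n)) * n⁻¹ = y⁻¹ * s by
      rw [← e]; group] at this
    exact this

/-- Inner products with a function vanishing on the regular elements. -/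
theorem Hyp.inner_singular (h : Hyp P) {a b : G → ℂ} (ha : IsClassFunction G a) (hb : IsClassFunction G b)
    (h0 : ∀ g, pp p g = 1 → b g = 0) :
    2 * (Nat.card (P : Subgroup G) : ℂ) * classInner a b = ∑ y ∈ punct P, avg P (fun g => a g * conj (b g)) y := by
  have hcl : IsClassFunction G (fun g => a g * conj (b g)) := fun g x => by
    show a _ * conj (b _) = _
    rw [ha g x, hb g x]
  have hG : (Nat.card G : ℂ) ≠ 0 := Nat.cast_ne_zero.2 Nat.card_pos.ne'
  have hq : (Nat.card (P : Subgroup G) : ℂ) ≠ 0 := Nat.cast_ne_zero.2 Nat.card_pos.ne'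
  rw [classInner, h.sum_split hcl, Finset.sum_eq_zero (s := regs p G) fun g hg => by
    rw [h0 g (mem_regs.1 hg), map_zero, mul_zero]]
  field_simp
  ring

theorem Hyp.card_reg (h : Hyp P) :
    2 * (Nat.card (P : Subgroup G) : ℂ) * ((regs p G).card : ℂ) =
      (Nat.card G : ℂ) * ((Nat.card (P : Subgroup G) : ℂ) + 1) := by
  have e := h.sum_split (F := fun _ => (1 : ℂ)) (fun _ _ => rfl)
  rw [Finset.sum_congr (rfl : punct P = punct P) fun y hy =>
    h.avg_of_const (F := fun _ => (1 : ℂ)) (c := 1) (mem_punct.1 hy).1 (mem_punct.1 hy).2 fun _ _ => rfl] at e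
  have hc := congrArg (fun n : ℕ => (n : ℂ)) (card_punct (P := P))
  simp only [Nat.cast_add, Nat.cast_one] at hc
  simp only [Finset.sum_const, Finset.card_univ, nsmul_eq_mul, mul_one, ← Nat.card_eq_fintype_card] at e
  have hq : (Nat.card (P : Subgroup G) : ℂ) ≠ 0 := Nat.cast_ne_zero.2 Nat.card_pos.ne'
  field_simp at e
  linear_combination -e - (Nat.card G : ℂ) * hc

end Sums

end CfsgLib.SmithTyrer
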