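import Cfsg.Agent.Lib.CharTheory.CoherenceExt
import Cfsg.Agent.Lib.CharTheory.Signed

/-!
Generalized characters of norm two.
-/

set_option autoImplicit false

namespace CfsgLib.SmithTyrer

open Cfsg CfsgLib.CharTheory
open scoped ComplexConjugate

universe u

variable {G : Type u} [Group G] [Fintype G]

theorem eq_of_inner {a b : G → ℂ}
    (h : classInner a a + classInner b b - classInner a b - classInner b a = 0) : a = b := by
  obtain ⟨r, -, hr, hz⟩ := classInner_self_nonneg_real (a - b)
  refine sub_eq_zero.mp (hz ?_)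
  have : (r : ℂ) = 0 := by
    rw [← hr, classInner_sub_left, classInner_sub_right, classInner_sub_right, ← h]; ring
  exact_mod_cast this

theorem signed_genChar {a : G → ℂ} (h : IsSignedIrr a) : IsGeneralizedCharacter G a := by
  rcases h with h | h
  · exact isGenChar_of_char (isCharacter_of_irr h)
  · simpa using isGenChar_neg (isGenChar_of_char (isCharacter_of_irr h))

/-- A generalized character of norm two is a sum of two orthogonal signed irreducibles. -/
theorem split_two {θ : G → ℂ} (hθ : IsGeneralizedCharacter G θ) (h2 : classInner θ θ = 2) :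
    ∃ a b : G → ℂ, IsSignedIrr a ∧ IsSignedIrr b ∧ classInner a b = 0 ∧ θ = a + b := by
  classical
  obtain ⟨c, hc, hcoef, hsq⟩ := classInner_self_eq_sum_sq hθ
  rw [h2] at hsq
  have hs : ∑ ψ : IrrCharacter G, c ψ ^ 2 = 2 := by exact_mod_cast hsq.symm
  obtain ⟨i, hi⟩ : ∃ i, c i ≠ 0 := by
    by_contra hall
    push Not at hall
    simp [hall] at hs
  have hle : c i ^ 2 ≤ 2 := hs ▸ Finset.single_le_sum (f := fun ψ => c ψ ^ 2) (fun _ _ => sq_nonneg _)
    (Finset.mem_univ i)
  have hi1 : c i = 1 ∨ c i = -1 := by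
    have h1 : c i ≤ 1 := by nlinarith
    have h3 : -1 ≤ c i := by nlinarith
    omega
  set a : G → ℂ := (c i : ℂ) • (i : G → ℂ) with ha
  have haS : IsSignedIrr a := by
    rcases hi1 with e | e
    · left; simpa [ha, e] using i.2
    · right; simpa [ha, e] using i.2
  have hθa : classInner θ a = 1 := by
    rw [ha, classInner_smul_right, hcoef, map_intCast]
    rcases hi1 with e | e <;> simp [e]
  have haθ : classInner a θ = 1 := by rw [← classInner_comm, hθa, map_one]
  refine ⟨a, θ - a, haS, irr_or_neg_of_norm_one (isGenChar_sub hθ (signed_genChar haS)) ?_, ?_, by abel⟩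
  · rw [classInner_sub_left, classInner_sub_right, classInner_sub_right, h2, hθa, haθ,
      classInner_self_signed haS]
    norm_num
  · rw [classInner_sub_right, haθ, classInner_self_signed haS, sub_self]

/-- Two generalized characters of norm two with inner product one have exactly one common constituent. -/
theorem coeff_cases {v a b : G → ℂ} (hv : IsGeneralizedCharacter G v) (h2 : classInner v v = 2)
    (ha : IsSignedIrr a) (hb : IsSignedIrr b) (hab : classInner a b = 0) (h1 : classInner v (a + b) = 1) :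
    (classInner v a = 1 ∧ classInner v b = 0) ∨ (classInner v a = 0 ∧ classInner v b = 1) := by
  obtain ⟨m, hm⟩ := classInner_genChar_int hv (signed_genChar ha)
  obtain ⟨n, hn⟩ := classInner_genChar_int hv (signed_genChar hb)
  rw [classInner_add_right, hm, hn] at h1
  have hmn : m + n = 1 := by exact_mod_cast h1
  have hm' : classInner a v = m := by rw [← classInner_comm, hm, map_intCast]
  have hn' : classInner b v = n := by rw [← classInner_comm, hn, map_intCast]
  have hba : classInner b a = 0 := by rw [← classInner_comm, hab, map_zero]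
  obtain ⟨r, hr, e, -⟩ := classInner_self_nonneg_real (v - (m : ℂ) • a - (n : ℂ) • b)
  have e' : ((2 - m ^ 2 - n ^ 2 : ℤ) : ℂ) = (r : ℂ) := by
    rw [← e]
    simp only [classInner_sub_left, classInner_sub_right, classInner_smul_left, classInner_smul_right,
      map_intCast, classInner_self_signed ha, classInner_self_signed hb, hab, hba, h2, hm, hn, hm', hn']
    push_cast; ring
  have e3 : (((2 - m ^ 2 - n ^ 2 : ℤ) : ℝ) : ℂ) = (r : ℂ) := by rw [← e']; norm_cast
  have h0 : 0 ≤ 2 - m ^ 2 - n ^ 2 := by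
    have : (0 : ℝ) ≤ ((2 - m ^ 2 - n ^ 2 : ℤ) : ℝ) := by rw [Complex.ofReal_inj.mp e3]; exact hr
    exact_mod_cast this
  have hn1 : n = 1 - m := by omega
  subst hn1
  have h3 : m = 0 ∨ m = 1 := by
    have : -1 ≤ m := by nlinarith
    have : m ≤ 2 := by nlinarith
    interval_cases m <;> simp_all
  rcases h3 with rfl | rfl <;> simp [hm, hn]

/-- Four or more generalized characters of norm two with inner products one have a common
constituent. -/
theorem star (S : Set (G → ℂ)) (hgen : ∀ u ∈ S, IsGeneralizedCharacter G u)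
    (h2 : ∀ u ∈ S, classInner u u = 2) (h1 : ∀ u ∈ S, ∀ v ∈ S, u ≠ v → classInner u v = 1)
    (h4 : ∃ u₁ ∈ S, ∃ u₂ ∈ S, ∃ u₃ ∈ S, ∃ u₄ ∈ S,
      u₁ ≠ u₂ ∧ u₁ ≠ u₃ ∧ u₁ ≠ u₄ ∧ u₂ ≠ u₃ ∧ u₂ ≠ u₄ ∧ u₃ ≠ u₄) :
    ∃ a, IsSignedIrr a ∧ ∀ u ∈ S, classInner u a = 1 := by
  obtain ⟨u₁, hu₁, u₂, hu₂, u₃, hu₃, u₄, hu₄, n12, n13, n14, n23, n24, n34⟩ := h4
  obtain ⟨a, b, ha, hb, hab, rfl⟩ := split_two (hgen u₁ hu₁) (h2 _ hu₁)
  wlog hcase : classInner u₂ a = 1 ∧ classInner u₂ b = 0 generalizing a b
  · have hc := (coeff_cases (hgen u₂ hu₂) (h2 u₂ hu₂) ha hb hab (h1 _ hu₂ _ hu₁ n12.symm)).resolve_left hcase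
    refine this b a hb ha (by rw [← classInner_comm, hab, map_zero]) ?_ ?_ ?_ ?_ ⟨hc.2, hc.1⟩
    all_goals first | (rw [add_comm b a]; assumption)
  obtain ⟨h2a, h2b⟩ := hcase
  set c := u₂ - a with hc
  have hba : classInner b a = 0 := by rw [← classInner_comm, hab, map_zero]
  have ha2 : classInner a u₂ = 1 := by rw [← classInner_comm, h2a, map_one]
  have hb2 : classInner b u₂ = 0 := by rw [← classInner_comm, h2b, map_zero]
  have hcS : IsSignedIrr c := irr_or_neg_of_norm_one (isGenChar_sub (hgen u₂ hu₂) (signed_genChar ha)) (by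
    rw [hc, classInner_sub_left, classInner_sub_right, classInner_sub_right, h2 u₂ hu₂, h2a, ha2,
      classInner_self_signed ha]
    norm_num)
  have hac : classInner a c = 0 := by rw [hc, classInner_sub_right, ha2, classInner_self_signed ha, sub_self]
  have hca : classInner c a = 0 := by rw [← classInner_comm, hac, map_zero]
  have hbc : classInner b c = 0 := by rw [hc, classInner_sub_right, hb2, hba, sub_self]
  have hcb : classInner c b = 0 := by rw [← classInner_comm, hbc, map_zero]
  have hu₂' : u₂ = a + c := by rw [hc]; abel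
  have other : ∀ w ∈ S, w ≠ a + b → w ≠ u₂ → classInner w a = 1 ∨
      (classInner w a = 0 ∧ w = b + c) := by
    intro w hw hw1 hw2
    rcases coeff_cases (hgen w hw) (h2 w hw) ha hb hab (h1 w hw _ hu₁ hw1) with ⟨e, -⟩ | ⟨e, e'⟩
    · exact Or.inl e
    refine Or.inr ⟨e, eq_of_inner ?_⟩
    have e2 := h1 w hw u₂ hu₂ hw2
    rw [hu₂', classInner_add_right, e, zero_add] at e2
    have s1 : classInner b w = 1 := by rw [← classInner_comm, e', map_one]
    have s2 : classInner c w = 1 := by rw [← classInner_comm, e2, map_one]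
    simp only [classInner_add_left, classInner_add_right, h2 w hw, classInner_self_signed hb,
      classInner_self_signed hcS, hbc, hcb, e', e2, s1, s2]
    norm_num
  -- a third member through the common constituent
  obtain ⟨w₀, hw₀, hw₀1, hw₀2, hw₀a, hw₀ne⟩ : ∃ w ∈ S, w ≠ a + b ∧ w ≠ u₂ ∧ classInner w a = 1 ∧ w ≠ b + c := by
    rcases other u₃ hu₃ n13.symm n23.symm with e | ⟨-, e⟩
    · refine ⟨u₃, hu₃, n13.symm, n23.symm, e, fun e' => ?_⟩
      rw [e', classInner_add_left, hba, hca] at e
      norm_num at e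
    · refine ⟨u₄, hu₄, n14.symm, n24.symm, ?_, fun e' => n34 (e.trans e'.symm)⟩
      exact (other u₄ hu₄ n14.symm n24.symm).resolve_right fun h => n34 (e.trans h.2.symm)
  refine ⟨a, ha, fun u hu => ?_⟩
  by_cases e1 : u = a + b
  · rw [e1, classInner_add_left, classInner_self_signed ha, hba, add_zero]
  by_cases e2 : u = u₂
  · rw [e2, h2a]
  refine (other u hu e1 e2).resolve_right fun ⟨_, hu'⟩ => ?_
  subst hu'
  have hb0 : classInner b w₀ = 0 := by
    rcases coeff_cases (hgen w₀ hw₀) (h2 w₀ hw₀) ha hb hab (h1 w₀ hw₀ _ hu₁ hw₀1) with ⟨-, e⟩ | ⟨e, -⟩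
    · rw [← classInner_comm, e, map_zero]
    · rw [hw₀a] at e; norm_num at e
  have hc0 : classInner c w₀ = 0 := by
    have e := h1 w₀ hw₀ u₂ hu₂ hw₀2
    rw [hu₂', classInner_add_right, hw₀a] at e
    rw [← classInner_comm, show classInner w₀ c = 0 by linear_combination e, map_zero]
  have e := h1 _ hu w₀ hw₀ hw₀ne.symm
  rw [classInner_add_left, hb0, hc0] at e
  norm_num at e

end CfsgLib.SmithTyrer
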