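import Cfsg.Agent.Lib.SmithTyrer.Central
import Cfsg.Agent.Lib.SmithTyrer.Norm
import Cfsg.Agent.Lib.SmithTyrer.Lift
import Cfsg.Agent.Lib.BSW.PairCount

/-!
The two faithful characters over the common constituent, and the involution count.
-/

set_option autoImplicit false
set_option linter.unusedSectionVars false

namespace CfsgLib.SmithTyrer

open Cfsg CfsgLib.CharTheory
open scoped ComplexConjugate

universe u

/-- The functional counting products of two members of a class. -/
noncomputable def quot {G : Type u} [Group G] [Fintype G] (j : G) (b : G → ℂ) : ℂ :=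
  ∑ χ : IrrCharacter G, classInner b χ.1 * (χ.1 j ^ 2 / χ.1 1)

theorem quot_sub {G : Type u} [Group G] [Fintype G] (j : G) (a b : G → ℂ) :
    quot j (a - b) = quot j a - quot j b := by
  simp only [quot, classInner_sub_left, sub_mul, Finset.sum_sub_distrib]

theorem quot_smul {G : Type u} [Group G] [Fintype G] (j : G) (r : ℂ) (a : G → ℂ) :
    quot j (r • a) = r * quot j a := by
  simp only [quot, classInner_smul_left, mul_assoc, ← Finset.mul_sum]

theorem quot_signed {G : Type u} [Group G] [Fintype G] (j : G) {b : G → ℂ} (hb : IsSignedIrr b) :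
    quot j b = b j ^ 2 / b 1 := by
  classical
  rcases hb with h | h
  · rw [quot, Finset.sum_eq_single (⟨b, h⟩ : IrrCharacter G), classInner_irr_self h, one_mul]
    · intro χ _ hχ
      rw [classInner_irr_ne h χ.2 fun e => hχ (Subtype.ext e.symm), zero_mul]
    · exact fun hh => absurd (Finset.mem_univ _) hh
  · have e : b = (-1 : ℂ) • (-b) := by simp
    conv_lhs => rw [e]
    rw [quot_smul, quot, Finset.sum_eq_single (⟨-b, h⟩ : IrrCharacter G), classInner_irr_self h]
    · simp [div_neg, neg_div]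
    · intro χ _ hχ
      rw [classInner_irr_ne h χ.2 fun e => hχ (Subtype.ext e.symm), zero_mul]
    · exact fun hh => absurd (Finset.mem_univ _) hh

/-- Summing a class function over the products of a class with itself. -/
theorem sum_products {G : Type u} [Group G] [Fintype G] (A : Finset G) (j : G)
    (hA : ∀ x, x ∈ A ↔ IsConj j x) (F : G → ℂ) :
    ∑ x ∈ A, ∑ y ∈ A, F (x * y) = (A.card : ℂ) ^ 2 * quot j F := by
  classical
  have hinv : ∀ x ∈ A, ∀ h : G, h * x * h⁻¹ ∈ A := fun x hx h =>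
    (hA _).2 (((hA x).1 hx).trans (isConj_iff.2 ⟨h, rfl⟩))
  have hre : ∑ x ∈ A, ∑ y ∈ A, F (x * y) = ∑ g : G, ((A.filter fun x => x⁻¹ * g ∈ A).card : ℂ) * F g := by
    have e : ∀ g : G, ((A.filter fun x => x⁻¹ * g ∈ A).card : ℂ) * F g =
        ∑ x ∈ A, if x⁻¹ * g ∈ A then F g else 0 := fun g => by
      rw [← Finset.sum_boole, Finset.sum_mul]
      exact Finset.sum_congr rfl fun x _ => by split_ifs <;> simp
    rw [Fintype.sum_congr _ _ e]
    refine Eq.trans ?_ Finset.sum_comm
    refine Finset.sum_congr rfl fun x _ => ?_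
    rw [← Finset.sum_filter]
    refine Finset.sum_bij' (fun y _ => x * y) (fun g _ => x⁻¹ * g) (fun y hy => by simpa using hy)
      (fun g hg => (Finset.mem_filter.1 hg).2) (fun y _ => inv_mul_cancel_left _ _)
      (fun g _ => mul_inv_cancel_left _ _) fun _ _ => rfl
  have hG : (Nat.card G : ℂ) ≠ 0 := Nat.cast_ne_zero.2 Nat.card_pos.ne'
  apply mul_left_cancel₀ hG
  rw [hre, Finset.mul_sum]
  simp only [← mul_assoc, BSW.card_pairs A hinv]
  simp only [Finset.sum_mul]
  rw [Finset.sum_comm, quot, Finset.mul_sum]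
  refine Finset.sum_congr rfl fun χ _ => ?_
  have hc : ∑ x ∈ A, χ.1 x = (A.card : ℂ) * χ.1 j := by
    rw [Finset.sum_congr rfl fun x hx => (isClassFunction_iff_isConj.1 (isClassFunction_irr χ.2) j x ((hA x).1 hx)).symm,
      Finset.sum_const, nsmul_eq_mul]
  rw [hc, classInner]
  simp only [Finset.mul_sum, Finset.sum_mul]
  refine Finset.sum_congr rfl fun g _ => ?_
  field_simp

variable {p : ℕ} [hp : Fact p.Prime] {G : Type u} [Group G] [Fintype G] {P : Sylow p G}
  {E : Type u} [Group E] [Fintype E]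

theorem sum_fibre (τ : E →* G) (hτ : Function.Surjective τ) (F : G → ℂ) :
    (Nat.card E : ℂ)⁻¹ * ∑ e : E, F (τ e) = (Nat.card G : ℂ)⁻¹ * ∑ g : G, F g := by
  classical
  have hcard : Nat.card E = Nat.card τ.ker * Nat.card G := by
    rw [← Subgroup.card_mul_index τ.ker, Subgroup.index_ker, MonoidHom.range_eq_top.2 hτ, Subgroup.card_top]
  have hfib : ∀ g : G, ((Finset.univ.filter fun e : E => τ e = g).card : ℂ) = (Nat.card τ.ker : ℂ) := by
    intro g
    obtain ⟨c, rfl⟩ := hτ g
    norm_cast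
    rw [← Fintype.card_subtype, ← Nat.card_eq_fintype_card]
    exact Nat.card_congr
      { toFun := fun e => ⟨c⁻¹ * e.1, by rw [MonoidHom.mem_ker, map_mul, map_inv, e.2, inv_mul_cancel]⟩
        invFun := fun z => ⟨c * z.1, by rw [map_mul, MonoidHom.mem_ker.1 z.2, mul_one]⟩
        left_inv := fun _ => Subtype.ext (mul_inv_cancel_left _ _)
        right_inv := fun _ => Subtype.ext (inv_mul_cancel_left _ _) }
  have e : ∑ e : E, F (τ e) = (Nat.card τ.ker : ℂ) * ∑ g : G, F g := by
    rw [← Finset.sum_fiberwise Finset.univ τ, Finset.mul_sum]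
    refine Finset.sum_congr rfl fun g _ => ?_
    rw [Finset.sum_congr rfl fun x hx => by rw [(Finset.mem_filter.1 hx).2], Finset.sum_const, nsmul_eq_mul, hfib]
  have hk0 : (Nat.card τ.ker : ℂ) ≠ 0 := Nat.cast_ne_zero.2 Nat.card_pos.ne'
  rw [e, hcard, Nat.cast_mul]
  field_simp

namespace ExtData

variable (D : ExtData P E)

/-- The lifted weight. -/
noncomputable def base (ψ : E → ℂ) (e : E) : ℂ := fuse D.pre ψ (pp p e)

open Classical in
/-- The squared modulus of the weight, downstairs. -/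
noncomputable def wtSq (n : ℕ) (y : G) : ℂ := if ∃ w, D.InCore w ∧ D.τ w = y then (n : ℂ) ^ 2 else 0

variable {n : ℕ} {ψ : E → ℂ}

theorem wtSq_fused (h : Hyp P) : ∀ a ∈ (P : Subgroup G), ∀ g : G, g * a * g⁻¹ ∈ (P : Subgroup G) →
    D.wtSq n (g * a * g⁻¹) = D.wtSq n a := by
  classical
  intro a ha g hga
  rcases h.fusion ha hga rfl with e | e <;> rw [e]
  simp only [wtSq]
  refine if_congr ?_ rfl rfl
  constructor <;> rintro ⟨w, hw, hwa⟩ <;> exact ⟨w⁻¹, D.inCore_inv hw, by simp [map_inv, hwa]⟩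

/-- The weight of a `p`-element through a conjugate in the preimage. -/
theorem exists_conj_pre {x : E} (hx : IsPEl p x) : ∃ c : E, c * x * c⁻¹ ∈ (D.pre : Subgroup E) :=
  exists_in_sylow D.pre hx

theorem base_norm (h : Hyp P) (hw : D.Wt n ψ) (e : E) :
    D.base ψ e * conj (D.base ψ e) = fuse P (D.wtSq n) (pp p (D.τ e)) := by
  classical
  obtain ⟨c, hc⟩ := D.exists_conj_pre (isPEl_pp (p := p) e)
  rw [base, ← fuse_classFun hw.fused (pp p e) c, fuse_of_mem hw.fused hc, pp_map,
    ← fuse_classFun (D.wtSq_fused h) (D.τ (pp p e)) (D.τ c)]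
  have hmem : D.τ c * D.τ (pp p e) * (D.τ c)⁻¹ ∈ (P : Subgroup G) := by simpa using D.mem_pre.1 hc
  rw [fuse_of_mem (D.wtSq_fused h) hmem, wtSq]
  set w := c * pp p e * c⁻¹ with hwdef
  by_cases hC : D.InCore w
  · rw [if_pos ⟨w, hC, by simp [hwdef]⟩, hw.norm_core w hC]
  · rw [if_neg, hw.off w hC, zero_mul]
    rintro ⟨v, hv, hve⟩
    refine hC ?_
    have hz : w * v⁻¹ ∈ D.τ.ker := by rw [MonoidHom.mem_ker, map_mul, map_inv, hve]; simp [hwdef]
    have := D.inCore_mul (D.inCore_ker hz) hv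
    rwa [inv_mul_cancel_right] at this

theorem base_ker (hw : D.Wt n ψ) {z : E} (hz : z ∈ D.τ.ker) (e : E) :
    D.base ψ (z * e) = ψ z / (n : ℂ) * D.base ψ e := by
  obtain ⟨c, hc⟩ := D.exists_conj_pre (isPEl_pp (p := p) e)
  have hpp : pp p (z * e) = z * pp p e := by
    conv_lhs => rw [← pp_mul_rp (p := p) e, ← mul_assoc]
    refine pp_mul ((D.comm_ker hz _).mul_left (commute_pp_rp e)) ?_ (isPReg_rp e)
    obtain ⟨k, hk⟩ := isPEl_pp (p := p) e
    obtain ⟨l, hl⟩ := D.ker_pEl hz
    exact ⟨l + k, by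
      rw [(D.comm_ker hz (pp p e)).mul_pow, pow_add, pow_mul, hl, one_pow, one_mul, mul_comm (p ^ l),
        pow_mul, hk, one_pow]⟩
  have hcj : c * (z * pp p e) * c⁻¹ = z * (c * pp p e * c⁻¹) := by
    rw [← mul_assoc c, ← (D.comm_ker hz c).eq]; simp only [mul_assoc]
  rw [base, base, hpp, ← fuse_classFun hw.fused (z * pp p e) c, ← fuse_classFun hw.fused (pp p e) c,
    fuse_of_mem hw.fused hc, hcj, fuse_of_mem hw.fused ((D.pre : Subgroup E).mul_mem (D.inCore_ker hz).1 hc),
    hw.ker_mul z hz]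

theorem base_gen (hw : D.Wt n ψ) : IsGeneralizedCharacter E (D.base ψ) := isGenChar_lift hw.fused hw.gen

theorem base_reg (hw : D.Wt n ψ) {e : E} (he : pp p e = 1) : D.base ψ e = n := by
  rw [base, he, fuse_of_mem hw.fused (D.pre : Subgroup E).one_mem, hw.one]

theorem base_over_reg (hw : D.Wt n ψ) {e : E} (he : pp p (D.τ e) = 1) :
    pp p e ∈ D.τ.ker ∧ D.base ψ e = ψ (pp p e) := by
  have hk : pp p e ∈ D.τ.ker := by rw [MonoidHom.mem_ker, ← pp_map, he]
  exact ⟨hk, fuse_of_mem hw.fused (D.inCore_ker hk).1⟩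

/-- Inner products of twisted functions come down to `G`. -/
theorem inner_twist (h : Hyp P) (hw : D.Wt n ψ) (a b : G → ℂ) :
    classInner (fun e => D.base ψ e * a (D.τ e)) (fun e => D.base ψ e * b (D.τ e)) =
      classInner (fun g => fuse P (D.wtSq n) (pp p g) * a g) b := by
  rw [classInner, classInner, ← sum_fibre D.τ D.surj]
  congr 1
  refine Finset.sum_congr rfl fun e _ => ?_
  rw [map_mul, ← D.base_norm h hw e]
  ring

theorem sum_wtSq (hw : D.Wt n ψ) :
    (p : ℂ) * ∑ y ∈ punct P, D.wtSq n y = (p : ℂ) * Nat.card (P : Subgroup G) - (p : ℂ) * (n : ℂ) ^ 2 := by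
  classical
  set S : Finset G := (punct P).filter fun y => ∃ w, D.InCore w ∧ D.τ w = y with hS
  have e1 : ∑ y ∈ punct P, D.wtSq n y = (S.card : ℂ) * (n : ℂ) ^ 2 := by
    simp only [wtSq]
    rw [← Finset.sum_filter, Finset.sum_const, nsmul_eq_mul, hS]
  have e2 : Nat.card {w : E // D.InCore w} = p * (S.card + 1) := by
    rw [Nat.card_eq_fintype_card, Fintype.card_subtype,
      Finset.card_eq_sum_card_fiberwise (f := fun w => D.τ w) (t := insert 1 S) (fun w hw' => ?_),
      Finset.sum_congr rfl (fun y hy => ?_ : ∀ y ∈ insert 1 S,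
        ((Finset.univ.filter D.InCore).filter fun w => D.τ w = y).card = p),
      Finset.sum_const, smul_eq_mul, Finset.card_insert_of_notMem (fun h1 => (mem_punct.1 (Finset.mem_filter.1 h1).1).2 rfl),
      mul_comm]
    · obtain ⟨w₀, hw₀, hy0⟩ : ∃ w₀, D.InCore w₀ ∧ D.τ w₀ = y := by
        rcases Finset.mem_insert.1 hy with rfl | hy'
        · exact ⟨1, D.inCore_ker (one_mem _), map_one _⟩
        · exact (Finset.mem_filter.1 hy').2
      rw [Finset.filter_filter, ← Fintype.card_subtype, ← Nat.card_eq_fintype_card]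
      refine Eq.trans ?_ D.card_ker
      exact Nat.card_congr
        { toFun := fun e => ⟨e.1 * w₀⁻¹, by rw [MonoidHom.mem_ker, map_mul, map_inv, e.2.2, hy0, mul_inv_cancel]⟩
          invFun := fun z => ⟨z.1 * w₀, D.inCore_mul (D.inCore_ker z.2) hw₀, by
            rw [map_mul, MonoidHom.mem_ker.1 z.2, one_mul, hy0]⟩
          left_inv := fun _ => Subtype.ext (inv_mul_cancel_right _ _)
          right_inv := fun _ => Subtype.ext (mul_inv_cancel_right _ _) }
    · simp only [Finset.coe_filter, Finset.mem_univ, true_and, Set.mem_setOf_eq] at hw'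
      simp only [Finset.coe_insert, Set.mem_insert_iff, Finset.mem_coe, hS, Finset.mem_filter, mem_punct]
      by_cases h1 : D.τ w = 1
      · exact Or.inl h1
      · exact Or.inr ⟨⟨D.mem_pre.1 hw'.1, h1⟩, w, hw', rfl⟩
  have e3 := congrArg (fun m : ℕ => (m : ℂ)) hw.count
  rw [e2] at e3
  push_cast at e3
  rw [e1]
  linear_combination e3

end ExtData

end CfsgLib.SmithTyrer
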