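import Cfsg.Agent.Lib.SmithTyrer.Residual
import Cfsg.Agent.Lib.SmithTyrer.Twist

/-!
An involution outside the kernel of the common constituent is impossible beside a central extension.
-/

set_option autoImplicit false
set_option linter.unusedSectionVars false

namespace CfsgLib.SmithTyrer

open Cfsg CfsgLib.CharTheory
open scoped ComplexConjugate

universe u

variable {p : ℕ} [hp : Fact p.Prime] {G : Type u} [Group G] [Fintype G] {P : Sylow p G}

/-- The regular moments of a signed irreducible which is one on the singular elements. -/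
theorem Hyp.moments (h : Hyp P) {φ : G → ℂ} (hφ : IsSignedIrr φ) (hφ1 : classInner φ (fun _ => 1) = 0)
    (hone : ∀ g : G, pp p g ≠ 1 → φ g = 1) :
    2 * (Nat.card (P : Subgroup G) : ℂ) * ∑ g ∈ regs p G, φ g =
        -((Nat.card G : ℂ) * ((Nat.card (P : Subgroup G) : ℂ) - 1)) ∧
      2 * (Nat.card (P : Subgroup G) : ℂ) * ∑ g ∈ regs p G, conj (φ g) =
        -((Nat.card G : ℂ) * ((Nat.card (P : Subgroup G) : ℂ) - 1)) ∧
      2 * (Nat.card (P : Subgroup G) : ℂ) * ∑ g ∈ regs p G, φ g * conj (φ g) =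
        (Nat.card G : ℂ) * ((Nat.card (P : Subgroup G) : ℂ) + 1) := by
  have hcl : IsClassFunction G φ := (isGenChar_iff_coeff_int.1 (signed_genChar hφ)).1
  have hG : (Nat.card G : ℂ) ≠ 0 := Nat.cast_ne_zero.2 Nat.card_pos.ne'
  have hq : (Nat.card (P : Subgroup G) : ℂ) ≠ 0 := Nat.cast_ne_zero.2 Nat.card_pos.ne'
  have hc : ((punct P).card : ℂ) = (Nat.card (P : Subgroup G) : ℂ) - 1 := by
    have := congrArg (fun m : ℕ => (m : ℂ)) (card_punct (P := P))
    simp only [Nat.cast_add, Nat.cast_one] at this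
    linear_combination this
  have hv : ∀ y ∈ punct P, ∀ s ∈ regCent p y, φ (y * s) = 1 := fun y hy s hs => hone _ (by
    rw [pp_mul (mem_regCent.1 hs).2.symm (isPEl_of_mem P.2 (mem_punct.1 hy).1) (mem_regCent.1 hs).1]
    exact (mem_punct.1 hy).2)
  have gen : ∀ F : G → ℂ, IsClassFunction G F → (∀ y ∈ punct P, ∀ s ∈ regCent p y, F (y * s) = 1) →
      2 * (Nat.card (P : Subgroup G) : ℂ) * ∑ g ∈ regs p G, F g =
        2 * (Nat.card (P : Subgroup G) : ℂ) * ∑ g : G, F g -
          (Nat.card G : ℂ) * ((Nat.card (P : Subgroup G) : ℂ) - 1) := fun F hF h1 => by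
    have e := h.sum_split hF
    rw [Finset.sum_congr (rfl : punct P = punct P) fun y hy =>
      h.avg_of_const (mem_punct.1 hy).1 (mem_punct.1 hy).2 (h1 y hy), Finset.sum_const, nsmul_eq_mul, mul_one, hc] at e
    rw [e]; field_simp; ring
  have hs0 : ∑ g : G, φ g = 0 := by
    simp only [classInner, map_one, mul_one] at hφ1
    exact (mul_eq_zero.1 hφ1).resolve_left (inv_ne_zero hG)
  refine ⟨?_, ?_, ?_⟩
  · rw [gen φ hcl hv, hs0]; ring
  · rw [gen (fun g => conj (φ g)) (fun g x => by simp only [hcl g x]) (fun y hy s hs => by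
      simp only [hv y hy s hs, map_one]), ← map_sum, hs0, map_zero]
    ring
  · rw [gen (fun g => φ g * conj (φ g)) (fun g x => by simp only [hcl g x]) (fun y hy s hs => by
      simp only [hv y hy s hs, map_one, mul_one])]
    have := classInner_self_signed hφ
    rw [classInner, inv_mul_eq_iff_eq_mul₀ hG, mul_one] at this
    rw [this]; ring

/-- Integral solutions of the count are excluded. -/
theorem no_solution {n f a : ℂ} (hn1 : n ≠ 1) (hn2 : n ≠ -1) (hf0 : f ≠ 0) (hf : f ≠ 1) (ha : a ≠ f)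
    (hD1 : n * (1 + f) + (1 - f) ≠ 0) (hD2 : n * (1 + f) - (1 - f) ≠ 0) :
    1 - a ^ 2 / f ≠ ((n * (1 + a) + (1 - a)) / 2) ^ 2 / ((n * (1 + f) + (1 - f)) / 2) -
      ((n * (1 + a) - (1 - a)) / 2) ^ 2 / ((n * (1 + f) - (1 - f)) / 2) := by
  intro h
  rw [div_div_eq_mul_div, div_div_eq_mul_div, one_sub_div hf0, div_sub_div _ _ hD1 hD2,
    div_eq_div_iff hf0 (mul_ne_zero hD1 hD2)] at h
  have key : (a - f) ^ 2 * (n - 1) * (n + 1) * (f - 1) = 0 := by linear_combination h
  rcases mul_eq_zero.1 key with h1 | h1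
  · rcases mul_eq_zero.1 h1 with h2 | h2
    · rcases mul_eq_zero.1 h2 with h3 | h3
      · exact ha (sub_eq_zero.1 (pow_eq_zero_iff two_ne_zero |>.1 h3))
      · exact hn1 (sub_eq_zero.1 h3)
    · exact hn2 (eq_neg_of_add_eq_zero_left h2)
  · exact hf (sub_eq_zero.1 h1)

variable {E : Type u} [Group E] [Fintype E]

/-- Beside a nonsplit central extension no involution has trace different from the degree. -/
theorem ExtData.no_involution (D : ExtData P E) (h : Hyp P) {φ : G → ℂ} (hφ : IsSignedIrr φ)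
    (hφ1 : classInner φ (fun _ => 1) = 0) (hone : ∀ g : G, pp p g ≠ 1 → φ g = 1) (hf : φ 1 ≠ 1) {j : G}
    (hj : j * j = 1) : φ j = φ 1 := by
  classical
  by_contra hne
  obtain ⟨n, ψ, hw⟩ := D.exists_wt h
  set G0 : E → ℂ := D.base ψ with hG0
  set X : E → ℂ := fun e => G0 e * (1 + φ (D.τ e)) with hX
  set Y : E → ℂ := fun e => G0 e * (1 - φ (D.τ e)) with hY
  have hone' : IsIrrCharacter G (fun _ => (1 : ℂ)) := isIrrCharacter_one
  have hφgen := signed_genChar hφ
  have hcl : IsClassFunction G φ := (isGenChar_iff_coeff_int.1 hφgen).1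
  have hφτ := isGenChar_comp hφgen D.τ
  have honeE : IsGeneralizedCharacter E (fun _ => (1 : ℂ)) := isGenChar_of_char isCharacter_one
  have hXgen : IsGeneralizedCharacter E X :=
    (funext fun e => rfl : X = G0 * ((fun _ => (1 : ℂ)) + fun e => φ (D.τ e))) ▸
      isGenChar_mul (D.base_gen hw) (isGenChar_add honeE hφτ)
  have hYgen : IsGeneralizedCharacter E Y :=
    (funext fun e => rfl : Y = G0 * ((fun _ => (1 : ℂ)) - fun e => φ (D.τ e))) ▸
      isGenChar_mul (D.base_gen hw) (isGenChar_sub honeE hφτ)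
  obtain ⟨m1, m2, m3⟩ := h.moments hφ hφ1 hone
  have mR := h.card_reg
  set q : ℂ := (Nat.card (P : Subgroup G) : ℂ) with hq
  set M : ℂ := (Nat.card G : ℂ) with hM
  have hq0 : q ≠ 0 := Nat.cast_ne_zero.2 Nat.card_pos.ne'
  have hM0 : M ≠ 0 := Nat.cast_ne_zero.2 Nat.card_pos.ne'
  have hn0 : (n : ℂ) ≠ 0 := Nat.cast_ne_zero.2 (by have := hw.gt; omega)
  have hp0 : (p : ℂ) ≠ 0 := Nat.cast_ne_zero.2 hp.out.ne_zero
  -- evaluation of inner products downstairs
  have eval : ∀ a b : G → ℂ, IsClassFunction G a → IsClassFunction G b → ∀ c : ℂ,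
      (∀ g, pp p g ≠ 1 → a g * conj (b g) = c) →
      2 * q * M * classInner (fun e => G0 e * a (D.τ e)) (fun e => G0 e * b (D.τ e)) =
        (n : ℂ) ^ 2 * (2 * q * ∑ g ∈ regs p G, a g * conj (b g)) + M * c * (q - (n : ℂ) ^ 2) := by
    intro a b ha hb c hc
    rw [D.inner_twist h hw, classInner]
    have hFcl : IsClassFunction G (fun g => fuse P (D.wtSq n) (pp p g) * a g * conj (b g)) := fun g x => by
      simp only [pp_conj, fuse_classFun (D.wtSq_fused h) (pp p g) x, ha g x, hb g x]
    rw [h.sum_split hFcl, Finset.sum_congr (rfl : punct P = punct P) fun y hy => show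
        avg P (fun g => fuse P (D.wtSq n) (pp p g) * a g * conj (b g)) y = c * D.wtSq n y by
      rw [← fuse_of_mem (D.wtSq_fused (n := n) h) (mem_punct.1 hy).1]
      refine h.avg_of_const (mem_punct.1 hy).1 (mem_punct.1 hy).2 fun s hs => ?_
      have hpp := pp_mul (p := p) (mem_regCent.1 hs).2.symm (isPEl_of_mem P.2 (mem_punct.1 hy).1) (mem_regCent.1 hs).1
      show fuse P (D.wtSq n) (pp p (y * s)) * _ * _ = _
      rw [hpp, mul_assoc, hc _ (by rw [hpp]; exact (mem_punct.1 hy).2), mul_comm],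
      Finset.sum_congr (rfl : regs p G = regs p G) fun g hg => show
        fuse P (D.wtSq n) (pp p g) * a g * conj (b g) = (n : ℂ) ^ 2 * (a g * conj (b g)) by
      rw [mem_regs.1 hg, fuse_of_mem (D.wtSq_fused h) (P : Subgroup G).one_mem, ExtData.wtSq,
        if_pos ⟨1, D.inCore_ker (one_mem _), map_one _⟩, mul_assoc],
      ← Finset.mul_sum, ← Finset.mul_sum]
    have hS := D.sum_wtSq hw
    have hS' : ∑ y ∈ punct P, D.wtSq n y = q - (n : ℂ) ^ 2 :=
      mul_left_cancel₀ hp0 (by rw [hS, hq]; ring)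
    rw [hS', ← hM]
    field_simp
    rw [← hq]
    ring
  have hXeq : X = fun e => G0 e * (fun g => 1 + φ g) (D.τ e) := rfl
  have hYeq : Y = fun e => G0 e * (fun g => 1 - φ g) (D.τ e) := rfl
  have cp : IsClassFunction G (fun g => 1 + φ g) := fun g x => by simp only [hcl g x]
  have cm : IsClassFunction G (fun g => 1 - φ g) := fun g x => by simp only [hcl g x]
  have hXX : classInner X X = 2 := by
    have e := eval _ _ cp cp 4 fun g hg => by simp only [hone g hg, map_add, map_one]; norm_num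
    change 2 * q * M * classInner X X = _ at e
    simp only [map_add, map_one, add_mul, mul_add, one_mul, mul_one, Finset.sum_add_distrib, Finset.sum_const,
      nsmul_eq_mul] at e
    apply mul_left_cancel₀ (mul_ne_zero (mul_ne_zero two_ne_zero hq0) hM0)
    linear_combination e + (n : ℂ) ^ 2 * (mR + m1 + m2 + m3)
  have hYY : classInner Y Y = 2 * (n : ℂ) ^ 2 := by
    have e := eval _ _ cm cm 0 fun g hg => by simp only [hone g hg, sub_self, zero_mul]
    change 2 * q * M * classInner Y Y = _ at e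
    simp only [map_sub, map_one, sub_mul, mul_sub, one_mul, mul_one, Finset.sum_sub_distrib, Finset.sum_const,
      nsmul_eq_mul] at e
    apply mul_left_cancel₀ (mul_ne_zero (mul_ne_zero two_ne_zero hq0) hM0)
    linear_combination e + (n : ℂ) ^ 2 * (mR - m1 - m2 + m3)
  have hXY : classInner X Y = 0 := by
    have e := eval _ _ cp cm 0 fun g hg => by simp only [hone g hg, map_sub, map_one, sub_self, map_zero, mul_zero]
    change 2 * q * M * classInner X Y = _ at e
    simp only [map_sub, map_one, add_mul, mul_sub, one_mul, mul_one, Finset.sum_add_distrib, Finset.sum_sub_distrib,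
      Finset.sum_const, nsmul_eq_mul] at e
    apply mul_left_cancel₀ (mul_ne_zero (mul_ne_zero two_ne_zero hq0) hM0)
    linear_combination e + (n : ℂ) ^ 2 * (mR + m1 - m2 - m3)
  have hYX : classInner Y X = 0 := by rw [← classInner_comm, hXY, map_zero]
  obtain ⟨θ, θ', hθ, hθ', horth, hsum⟩ := split_two hXgen hXX
  have hθgen := signed_genChar hθ
  have hθX : classInner θ X = 1 := by rw [hsum, classInner_add_right, classInner_self_signed hθ, horth, add_zero]
  have hXθ : classInner X θ = 1 := by rw [← classInner_comm, hθX, map_one]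
  -- the central character of the constituent
  have hθker : ∀ z ∈ D.τ.ker, ∀ e : E, θ (z * e) = ψ z / (n : ℂ) * θ e := by
    have hirr : ∀ χ : E → ℂ, IsIrrCharacter E χ → classInner X χ ≠ 0 →
        ∀ z ∈ D.τ.ker, ∀ e : E, χ (z * e) = ψ z / (n : ℂ) * χ e := by
      intro χ hχ hne' z hz
      obtain ⟨d, ρ, hρ, rfl⟩ := hχ
      haveI := hρ
      obtain ⟨μ, hμ⟩ := exists_scalar_of_mem_center ρ (D.central hz)
      have hmul : ∀ e, ρ.character (z * e) = μ * ρ.character e := fun e => by
        simp only [Representation.character, map_mul, hμ, ← Module.End.one_eq_id, smul_mul_assoc, one_mul, map_smul,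
          smul_eq_mul]
      have hXz : ∀ e, X (z * e) = ψ z / (n : ℂ) * X e := fun e => by
        simp only [hX, hG0, D.base_ker hw hz, map_mul, MonoidHom.mem_ker.1 hz, one_mul]; ring
      set lz := ψ z / (n : ℂ) with hlz
      have hshift : classInner X ρ.character = lz * conj μ * classInner X ρ.character := by
        simp only [classInner]
        rw [mul_left_comm]
        congr 1
        rw [Finset.mul_sum]
        refine (Fintype.sum_equiv (Equiv.mulLeft z) _ _ fun e => ?_).symm
        simp only [Equiv.coe_mulLeft, hXz, hmul, map_mul]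
        ring
      have h1 : lz * conj μ = 1 := by
        by_contra hne2
        exact hne' ((mul_left_eq_self₀.1 hshift.symm).resolve_left hne2)
      have hnorm : lz * conj lz = 1 := by
        rw [hlz, map_div₀, Complex.conj_natCast, div_mul_div_comm, hw.norm_core z (D.inCore_ker hz), pow_two,
          div_self (mul_ne_zero hn0 hn0)]
      have h1' := congrArg conj h1
      simp only [map_mul, Complex.conj_conj, map_one] at h1'
      intro e
      rw [hmul, show μ = lz by linear_combination lz * h1' - μ * hnorm]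
    intro z hz e
    rcases hθ with hh | hh
    · exact hirr θ hh (by rw [hXθ]; norm_num) z hz e
    · have := hirr _ hh (by rw [classInner_neg_right, hXθ]; norm_num) z hz e
      simp only [Pi.neg_apply] at this
      linear_combination -this
  -- the pairing with the difference is integral
  obtain ⟨d, hd⟩ : ∃ d : ℤ, classInner θ Y = (n : ℂ) * (d : ℂ) := by
    obtain ⟨d, hd⟩ := classInner_genChar_int (isGenChar_rp (p := p) hθgen) (isGenChar_sub honeE hφτ)
    refine ⟨d, ?_⟩
    rw [← hd, classInner, classInner, mul_left_comm (n : ℂ)]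
    congr 1
    rw [Finset.mul_sum]
    refine Finset.sum_congr rfl fun e _ => ?_
    simp only [hY, Pi.sub_apply, map_mul]
    by_cases he : pp p (D.τ e) = 1
    · obtain ⟨hk, hb⟩ := D.base_over_reg hw he
      rw [hG0, hb]
      conv_lhs => rw [← pp_mul_rp (p := p) e, hθker _ hk, pp_mul_rp]
      field_simp
      linear_combination (θ (rp p e) * conj (1 - φ (D.τ e))) * hw.norm_core _ (D.inCore_ker hk)
    · rw [hone _ he, sub_self, map_zero, mul_zero, mul_zero, mul_zero, mul_zero]
  have hYθ : classInner Y θ = (n : ℂ) * (d : ℂ) := by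
    rw [← classInner_comm, hd, map_mul, Complex.conj_natCast, map_intCast]
  have hG0eq : G0 = (1 / 2 : ℂ) • (X + Y) := funext fun e => by
    simp only [hX, hY, Pi.smul_apply, Pi.add_apply, smul_eq_mul]; ring
  have hd0 : d ≠ 0 := by
    intro h0
    obtain ⟨z, hz⟩ := classInner_genChar_int hθgen (D.base_gen hw)
    rw [← hG0, hG0eq, classInner_smul_right, classInner_add_right, hθX, hd, h0] at hz
    simp only [Int.cast_zero, mul_zero, add_zero, mul_one, map_div₀, map_one, map_ofNat] at hz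
    have h2 : ((2 * z : ℤ) : ℂ) = ((1 : ℤ) : ℂ) := by push_cast; linear_combination -2 * hz
    have h3 : 2 * z = 1 := Int.cast_injective h2
    omega
  -- exact decomposition
  set cand : E → ℂ := (1 / 2 : ℂ) • X + ((d : ℂ) / (2 * (n : ℂ))) • Y with hcand
  have hcc : classInner cand cand = (1 + (d : ℂ) ^ 2) / 2 ∧ classInner θ cand = (1 + (d : ℂ) ^ 2) / 2 ∧
      classInner cand θ = (1 + (d : ℂ) ^ 2) / 2 := by
    refine ⟨?_, ?_, ?_⟩
    all_goals
      simp only [hcand, classInner_add_left, classInner_add_right, classInner_smul_left, classInner_smul_right,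
        hXX, hYY, hXY, hYX, hθX, hXθ, hd, hYθ, map_div₀, map_mul, map_one, map_ofNat, map_intCast,
        Complex.conj_natCast]
      field_simp
      try ring
  have hd1 : d = 1 ∨ d = -1 := by
    obtain ⟨r, hr, hre, -⟩ := classInner_self_nonneg_real (θ - cand)
    rw [classInner_sub_left, classInner_sub_right, classInner_sub_right, hcc.1, hcc.2.1, hcc.2.2,
      classInner_self_signed hθ] at hre
    have e : (((1 - (d : ℝ) ^ 2) / 2 : ℝ) : ℂ) = (r : ℂ) := by rw [← hre]; push_cast; ring
    have e2 := Complex.ofReal_inj.1 e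
    have h2 : (d : ℝ) ^ 2 ≤ 1 := by linarith
    have h3 : d ^ 2 ≤ 1 := by exact_mod_cast h2
    have h4 : d ≤ 1 := by nlinarith
    have h5 : -1 ≤ d := by nlinarith
    omega
  have hdsq : (d : ℂ) ^ 2 = 1 := by rcases hd1 with e | e <;> simp [e]
  have hθeq : θ = cand := eq_of_inner (by
    rw [classInner_self_signed hθ, hcc.1, hcc.2.1, hcc.2.2, hdsq]; norm_num)
  have hθ'eq : θ' = (1 / 2 : ℂ) • X - ((d : ℂ) / (2 * (n : ℂ))) • Y := by
    funext e
    have h1 := congrFun hsum e
    have h2 := congrFun hθeq e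
    simp only [hcand, Pi.add_apply, Pi.sub_apply, Pi.smul_apply, smul_eq_mul] at h1 h2 ⊢
    linear_combination -h1 - h2
  have hYdec : Y = ((n : ℂ) * (d : ℂ)) • (θ - θ') := by
    rw [hθ'eq, hθeq, hcand]
    funext e
    simp only [Pi.smul_apply, Pi.sub_apply, Pi.add_apply, smul_eq_mul]
    field_simp
    linear_combination -(2 * Y e) * hdsq
  -- the involution upstairs
  obtain ⟨e0, he0⟩ := D.surj j
  set jh := rp p e0 with hjh
  have hjreg : pp p j = 1 := pp_eq_one_iff.2
    (Nat.Coprime.coprime_dvd_left (orderOf_dvd_of_pow_eq_one (by rw [pow_two]; exact hj))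
      ((Nat.coprime_primes Nat.prime_two hp.out).2 h.odd.symm))
  have hτjh : D.τ jh = j := by rw [hjh, ← rp_map, he0, rp, hjreg, inv_one, one_mul]
  have hjh2 : jh * jh = 1 := by
    refine eq_one_of_pEl_pReg (D.ker_pEl (by rw [MonoidHom.mem_ker, map_mul, hτjh, hj])) ?_
    rw [← pow_two]
    exact (isPReg_rp e0).coprime_dvd_left (orderOf_pow_dvd 2)
  let A : Finset E := Finset.univ.filter fun x => IsConj jh x
  let J : Finset G := Finset.univ.filter fun x => IsConj j x
  have hA : ∀ x, x ∈ A ↔ IsConj jh x := fun x => by simp [A]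
  have hJ : ∀ x, x ∈ J ↔ IsConj j x := fun x => by simp [J]
  have hA2 : ∀ x ∈ A, x * x = 1 := fun x hx => by
    obtain ⟨c, rfl⟩ := isConj_iff.1 ((hA x).1 hx)
    calc c * jh * c⁻¹ * (c * jh * c⁻¹) = c * (jh * jh) * c⁻¹ := by group
      _ = 1 := by rw [hjh2]; group
  have hinjA : Set.InjOn D.τ A := by
    intro x hx y hy hxy
    have hz : x * y⁻¹ ∈ D.τ.ker := by rw [MonoidHom.mem_ker, map_mul, map_inv, hxy, mul_inv_cancel]
    set z := x * y⁻¹ with hzdef
    have hxz : x = z * y := (inv_mul_cancel_right _ _).symm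
    have e : z * z = 1 := by
      have e1 := hA2 x hx
      rw [hxz] at e1
      calc z * z = z * z * (y * y) := by rw [hA2 y hy, mul_one]
        _ = z * (z * y) * y := by simp only [mul_assoc]
        _ = z * (y * z) * y := by rw [(D.comm_ker hz y).eq]
        _ = 1 := by rw [← e1]; simp only [mul_assoc]
    have hz1 : z = 1 := eq_one_of_pEl_pReg (D.ker_pEl hz)
      (Nat.Coprime.coprime_dvd_left (orderOf_dvd_of_pow_eq_one (by rw [pow_two]; exact e))
        ((Nat.coprime_primes Nat.prime_two hp.out).2 h.odd.symm))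
    rw [hxz, hz1, one_mul]
  have himg : A.image D.τ = J := by
    ext g
    rw [Finset.mem_image, hJ]
    constructor
    · rintro ⟨x, hx, rfl⟩
      obtain ⟨c, rfl⟩ := isConj_iff.1 ((hA x).1 hx)
      exact isConj_iff.2 ⟨D.τ c, by simp [hτjh]⟩
    · intro hg
      obtain ⟨c, rfl⟩ := isConj_iff.1 hg
      obtain ⟨c', rfl⟩ := D.surj c
      exact ⟨c' * jh * c'⁻¹, (hA _).2 (isConj_iff.2 ⟨c', rfl⟩), by simp [hτjh]⟩
  have hcardAJ : J.card = A.card := by rw [← himg, Finset.card_image_of_injOn hinjA]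
  set w : G → ℂ := (fun _ => (1 : ℂ)) - φ with hwdef
  have hYprod : ∀ x ∈ A, ∀ y ∈ A, Y (x * y) = (n : ℂ) * w (D.τ x * D.τ y) := by
    intro x hx y hy
    simp only [hY, hwdef, Pi.sub_apply, map_mul]
    by_cases he : pp p (D.τ (x * y)) = 1
    · obtain ⟨hk, -⟩ := D.base_over_reg hw he
      have e1 : x * (x * y) * x⁻¹ = (x * y)⁻¹ := by
        rw [mul_inv_rev, inv_eq_of_mul_eq_one_right (hA2 x hx), inv_eq_of_mul_eq_one_right (hA2 y hy),
          ← mul_assoc x, hA2 x hx, one_mul]
      have e2 := congrArg (pp p) e1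
      rw [pp_conj, pp_inv, ← (D.comm_ker hk x).eq, mul_inv_cancel_right] at e2
      have h1 : pp p (x * y) = 1 := eq_one_of_pEl_pReg (D.ker_pEl hk)
        (Nat.Coprime.coprime_dvd_left (orderOf_dvd_of_pow_eq_one (by
          rw [pow_two]; nth_rw 1 [e2]; exact inv_mul_cancel _))
          ((Nat.coprime_primes Nat.prime_two hp.out).2 h.odd.symm))
      rw [hG0, D.base_reg hw h1]
    · rw [← map_mul, hone _ he, sub_self, mul_zero, mul_zero]
  have lhs := sum_products A jh hA Y
  have rhs := sum_products J j hJ w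
  have hmove : ∑ x ∈ A, ∑ y ∈ A, Y (x * y) = (n : ℂ) * ∑ x ∈ J, ∑ y ∈ J, w (x * y) := by
    rw [← himg, Finset.sum_image hinjA, Finset.mul_sum]
    refine Finset.sum_congr rfl fun x hx => ?_
    rw [Finset.sum_image hinjA, Finset.mul_sum]
    exact Finset.sum_congr rfl fun y hy => hYprod x hx y hy
  rw [hmove, rhs, hcardAJ, hYdec, quot_smul, quot_sub jh θ θ', quot_signed jh hθ, quot_signed jh hθ',
    hwdef, quot_sub j, quot_signed j hφ, quot_signed j (Or.inl hone' : IsSignedIrr (fun _ : G => (1 : ℂ)))] at lhs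
  have hA0 : (A.card : ℂ) ≠ 0 := Nat.cast_ne_zero.2 (Finset.card_ne_zero.2 ⟨jh, (hA jh).2 (IsConj.refl _)⟩)
  have hG0jh : G0 jh = n := D.base_reg hw (pp_of_pReg (isPReg_rp e0))
  have hG01 : G0 1 = n := D.base_reg hw (pp_of_pEl isPEl_one)
  have vals : ∀ e : E, G0 e = n → cand e = ((n : ℂ) * (1 + φ (D.τ e)) + (d : ℂ) * (1 - φ (D.τ e))) / 2 ∧
      θ' e = ((n : ℂ) * (1 + φ (D.τ e)) - (d : ℂ) * (1 - φ (D.τ e))) / 2 := fun e he => by
    constructor
    · simp only [hcand, hX, hY, Pi.add_apply, Pi.smul_apply, smul_eq_mul, he]; field_simp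
    · rw [hθ'eq]; simp only [hX, hY, Pi.sub_apply, Pi.smul_apply, smul_eq_mul, he]; field_simp
  have v1 := vals 1 hG01
  have vj := vals jh hG0jh
  rw [map_one] at v1
  rw [hτjh] at vj
  have hne1 : ∀ t : E → ℂ, IsSignedIrr t → t 1 ≠ 0 := fun t ht => by
    rcases ht with hh | hh
    · exact irr_ne_zero hh
    · exact fun e => irr_ne_zero hh (by rw [Pi.neg_apply, e, neg_zero])
  have hD1 := hne1 θ hθ
  have hD2 := hne1 θ' hθ'
  rw [hθeq, v1.1] at hD1
  rw [v1.2] at hD2
  rw [hθeq, v1.1, v1.2, vj.1, vj.2] at lhs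
  have lhs' := mul_left_cancel₀ (mul_ne_zero hn0 (pow_ne_zero 2 hA0))
    (a := (n : ℂ) * (A.card : ℂ) ^ 2) (b := 1 ^ 2 / 1 - φ j ^ 2 / φ 1)
    (c := (d : ℂ) * ((((n : ℂ) * (1 + φ j) + (d : ℂ) * (1 - φ j)) / 2) ^ 2 /
      (((n : ℂ) * (1 + φ 1) + (d : ℂ) * (1 - φ 1)) / 2) -
      (((n : ℂ) * (1 + φ j) - (d : ℂ) * (1 - φ j)) / 2) ^ 2 /
      (((n : ℂ) * (1 + φ 1) - (d : ℂ) * (1 - φ 1)) / 2))) (by linear_combination lhs)
  rw [one_pow, div_one] at lhs'
  have hf0 : φ 1 ≠ 0 := by
    rcases hφ with hh | hh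
    · exact irr_ne_zero hh
    · exact fun e => irr_ne_zero hh (by rw [Pi.neg_apply, e, neg_zero])
  have hn1 : (n : ℂ) ≠ 1 := by exact_mod_cast (ne_of_gt hw.gt)
  have hn2 : (n : ℂ) ≠ -1 := fun e => by
    have := congrArg Complex.re e
    simp at this
    have : (0 : ℝ) ≤ n := Nat.cast_nonneg n
    linarith
  rcases hd1 with e | e
  · subst e
    simp only [Int.cast_one, one_mul] at lhs' hD1 hD2
    exact no_solution hn1 hn2 hf0 hf hne (left_ne_zero_of_mul hD1) (left_ne_zero_of_mul hD2) lhs'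
  · subst e
    simp only [Int.cast_neg, Int.cast_one, neg_mul, one_mul, sub_neg_eq_add, ← sub_eq_add_neg] at lhs' hD1 hD2
    refine no_solution hn1 hn2 hf0 hf hne (left_ne_zero_of_mul hD2) (left_ne_zero_of_mul hD1) ?_
    rw [lhs']; ring

end CfsgLib.SmithTyrer
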