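import Cfsg.Agent.Lib.CharTheory.PSection
import Cfsg.Agent.Lib.CharTheory.Brauer
import Cfsg.Agent.Lib.CharTheory.Irr
import Cfsg.Agent.Lib.CharTheory.Induced

/-!
Parts of coprime orders as powers, and generalized characters factoring through them.
-/

set_option autoImplicit false

namespace CfsgLib.SmithTyrer

open Cfsg CfsgLib.CharTheory
open scoped ComplexConjugate

universe u v

variable (p : ℕ) [hp : Fact p.Prime] {G : Type u} [Group G]

/-- A `p`-element. -/
def IsPEl (x : G) : Prop := ∃ k : ℕ, x ^ p ^ k = 1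

/-- A `p`-regular element. -/
def IsPReg (x : G) : Prop := (orderOf x).Coprime p

variable {p}

theorem isPEl_one : IsPEl p (1 : G) := ⟨0, one_pow _⟩

theorem isPReg_one : IsPReg p (1 : G) := by simp [IsPReg]

theorem isPEl_of_mem {P : Subgroup G} (hP : IsPGroup p P) {x : G} (hx : x ∈ P) : IsPEl p x := by
  obtain ⟨k, hk⟩ := hP ⟨x, hx⟩
  exact ⟨k, congrArg Subtype.val hk⟩

theorem IsPEl.map {H : Type v} [Group H] {x : G} (hx : IsPEl p x) (f : G →* H) : IsPEl p (f x) := by
  obtain ⟨k, hk⟩ := hx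
  exact ⟨k, by rw [← map_pow, hk, map_one]⟩

theorem IsPReg.map {H : Type v} [Group H] {x : G} (hx : IsPReg p x) (f : G →* H) : IsPReg p (f x) :=
  Nat.Coprime.coprime_dvd_left (orderOf_map_dvd f x) hx

theorem eq_one_of_pEl_pReg {x : G} (h : IsPEl p x) (h' : IsPReg p x) : x = 1 := by
  obtain ⟨k, hk⟩ := h
  exact orderOf_eq_one_iff.mp
    (Nat.eq_one_of_dvd_coprimes (h'.pow_right k) dvd_rfl (orderOf_dvd_of_pow_eq_one hk))

theorem pEl_iff_coprime [Finite G] {x : G} :
    IsPEl p x ↔ (orderOf x).Coprime (Nat.card G / p ^ (Nat.card G).factorization p) := by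
  constructor
  · rintro ⟨k, hk⟩
    exact ((Nat.coprime_ordCompl hp.out Nat.card_pos.ne').pow_left k).coprime_dvd_left
      (orderOf_dvd_of_pow_eq_one hk)
  · intro h
    refine ⟨(Nat.card G).factorization p, orderOf_dvd_iff_pow_eq_one.mp ?_⟩
    refine h.dvd_of_dvd_mul_right ?_
    rw [Nat.ordProj_mul_ordCompl_eq_self]
    exact orderOf_dvd_natCard x

section

variable [Finite G]

theorem exists_exp : ∃ e : ℕ, Nat.ModEq (p ^ (Nat.card G).factorization p) e 1 ∧
    Nat.ModEq (Nat.card G / p ^ (Nat.card G).factorization p) e 0 :=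
  ⟨_, (Nat.chineseRemainder ((Nat.coprime_ordCompl hp.out Nat.card_pos.ne').pow_left _) 1 0).2⟩

variable (p)

/-- The exponent projecting to the `p`-part. -/
noncomputable def pExp (G : Type u) [Group G] [Finite G] : ℕ := (exists_exp (p := p) (G := G)).choose

/-- The `p`-part. -/
noncomputable def pp (g : G) : G := g ^ pExp p G

/-- The `p`-regular part. -/
noncomputable def rp (g : G) : G := (pp p g)⁻¹ * g

variable {p}

theorem pp_of_pEl {g : G} (h : IsPEl p g) : pp p g = g := by
  have hd : orderOf g ∣ p ^ (Nat.card G).factorization p := by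
    refine (pEl_iff_coprime.mp h).dvd_of_dvd_mul_right ?_
    rw [Nat.ordProj_mul_ordCompl_eq_self]; exact orderOf_dvd_natCard g
  have h1 := (exists_exp (p := p) (G := G)).choose_spec.1.of_dvd hd
  conv_rhs => rw [← pow_one g]
  exact pow_eq_pow_iff_modEq.mpr h1

theorem pp_of_pReg {g : G} (h : IsPReg p g) : pp p g = 1 := by
  have hd : orderOf g ∣ Nat.card G / p ^ (Nat.card G).factorization p := by
    refine (Nat.Coprime.pow_right ((Nat.card G).factorization p) h).dvd_of_dvd_mul_left ?_
    rw [Nat.ordProj_mul_ordCompl_eq_self]; exact orderOf_dvd_natCard g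
  have h1 := (exists_exp (p := p) (G := G)).choose_spec.2.of_dvd hd
  rw [← pow_zero g]
  exact pow_eq_pow_iff_modEq.mpr h1

theorem isPEl_pp (g : G) : IsPEl p (pp p g) := by
  obtain ⟨c, hc⟩ := Nat.modEq_zero_iff_dvd.mp (exists_exp (p := p) (G := G)).choose_spec.2
  refine ⟨(Nat.card G).factorization p, ?_⟩
  rw [pp, ← pow_mul, show pExp p G = _ from hc, mul_assoc, mul_comm c, ← mul_assoc,
    mul_comm _ (p ^ _), Nat.ordProj_mul_ordCompl_eq_self, pow_mul, pow_card_eq_one', one_pow]

theorem isPReg_rp (g : G) : IsPReg p (rp p g) := by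
  obtain ⟨d, hd⟩ : ∃ d : ℤ, (pExp p G : ℤ) - 1 = (p ^ (Nat.card G).factorization p : ℕ) * d :=
    Nat.modEq_iff_dvd.mp (exists_exp (p := p) (G := G)).choose_spec.1.symm
  refine Nat.Coprime.coprime_dvd_left (orderOf_dvd_of_pow_eq_one ?_)
    (Nat.coprime_ordCompl hp.out (Nat.card_pos (α := G)).ne').symm
  have e : rp p g = g ^ (-((pExp p G : ℤ) - 1)) := by
    rw [rp, pp, ← zpow_natCast, ← zpow_neg, ← zpow_add_one]
    congr 1; ring
  rw [e, hd, ← zpow_natCast, ← zpow_mul,
    show -(((p ^ (Nat.card G).factorization p : ℕ) : ℤ) * d) *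
      ((Nat.card G / p ^ (Nat.card G).factorization p : ℕ) : ℤ) =
      (((p ^ (Nat.card G).factorization p) * (Nat.card G / p ^ (Nat.card G).factorization p) : ℕ) : ℤ) * (-d) by
        push_cast; ring,
    Nat.ordProj_mul_ordCompl_eq_self, zpow_mul, zpow_natCast, pow_card_eq_one' (x := g), one_zpow]

theorem pp_mul_rp (g : G) : pp p g * rp p g = g := mul_inv_cancel_left _ _

theorem commute_pp (g : G) : Commute (pp p g) g := (Commute.refl g).pow_left _

theorem commute_pp_rp (g : G) : Commute (pp p g) (rp p g) :=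
  ((Commute.refl _).inv_right).mul_right (commute_pp g)

theorem pp_mul {z w : G} (hc : Commute z w) (hz : IsPEl p z) (hw : IsPReg p w) : pp p (z * w) = z := by
  rw [pp, hc.mul_pow, show z ^ pExp p G = z from pp_of_pEl hz,
    show w ^ pExp p G = 1 from pp_of_pReg hw, mul_one]

theorem rp_mul {z w : G} (hc : Commute z w) (hz : IsPEl p z) (hw : IsPReg p w) : rp p (z * w) = w := by
  rw [rp, pp_mul hc hz hw, inv_mul_cancel_left]

theorem pp_map {H : Type v} [Group H] [Finite H] (f : G →* H) (g : G) : pp p (f g) = f (pp p g) := by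
  conv_lhs => rw [← pp_mul_rp (p := p) g, map_mul]
  exact pp_mul ((commute_pp_rp g).map f) ((isPEl_pp g).map f) ((isPReg_rp g).map f)

theorem rp_map {H : Type v} [Group H] [Finite H] (f : G →* H) (g : G) : rp p (f g) = f (rp p g) := by
  rw [rp, rp, pp_map, map_mul, map_inv]

theorem pp_eq_one_iff {g : G} : pp p g = 1 ↔ IsPReg p g := by
  refine ⟨fun h => ?_, pp_of_pReg⟩
  have := isPReg_rp (p := p) g
  rwa [rp, h, inv_one, one_mul] at this

theorem pp_conj (x g : G) : pp p (x * g * x⁻¹) = x * pp p g * x⁻¹ :=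
  pp_map (MulAut.conj x).toMonoidHom g

theorem rp_conj (x g : G) : rp p (x * g * x⁻¹) = x * rp p g * x⁻¹ :=
  rp_map (MulAut.conj x).toMonoidHom g

theorem pp_inv (g : G) : pp p g⁻¹ = (pp p g)⁻¹ := inv_pow g _

end

section GenChar

variable [Finite G]

omit hp [Finite G] in
theorem isGenChar_comp {H : Type v} [Group H] {θ : G → ℂ} (hθ : IsGeneralizedCharacter G θ) (f : H →* G) :
    IsGeneralizedCharacter H (fun h => θ (f h)) := by
  obtain ⟨a, b, ha, hb, rfl⟩ := hθ
  exact ⟨_, _, isCharacter_comp ha f, isCharacter_comp hb f, rfl⟩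

theorem pp_mul_of_nilpotent {E : Type u} [Group E] [Finite E] (hE : Group.IsNilpotent E) (a b : E) :
    pp p (a * b) = pp p a * pp p b := by
  obtain ⟨U, -, hU, hcomm⟩ := exists_coprime_part hE p
  obtain ⟨V, -, hV, -⟩ := exists_coprime_part hE (Nat.card E / p ^ (Nat.card E).factorization p)
  have hmix : ∀ x y : E, IsPEl p x → IsPReg p y → Commute x y := fun x y ⟨k, hk⟩ hy =>
    hcomm x y ((hy.pow_right k).coprime_dvd_right (orderOf_dvd_of_pow_eq_one hk)).symm
  have hel : IsPEl p (pp p a * pp p b) :=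
    pEl_iff_coprime.mpr ((hV _).mp (V.mul_mem ((hV _).mpr (pEl_iff_coprime.mp (isPEl_pp a)))
      ((hV _).mpr (pEl_iff_coprime.mp (isPEl_pp b)))))
  have hreg : IsPReg p (rp p a * rp p b) :=
    (hU _).mp (U.mul_mem ((hU _).mpr (isPReg_rp a)) ((hU _).mpr (isPReg_rp b)))
  have e : a * b = pp p a * pp p b * (rp p a * rp p b) := by
    conv_lhs => rw [← pp_mul_rp (p := p) a, ← pp_mul_rp (p := p) b]
    have hc := (hmix _ _ (isPEl_pp b) (isPReg_rp a)).eq
    calc pp p a * rp p a * (pp p b * rp p b) = pp p a * (rp p a * pp p b) * rp p b := by group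
      _ = pp p a * (pp p b * rp p a) * rp p b := by rw [hc]
      _ = _ := by group
  conv_lhs => rw [e]
  exact pp_mul (hmix _ _ hel hreg) hel hreg

/-- A class function of the `p`-part whose restriction to a Sylow subgroup is a generalized character
is a generalized character. -/
theorem isGenChar_of_pp {Φ : G → ℂ} (hΦ : IsClassFunction G Φ) (P : Sylow p G)
    (hP : IsGeneralizedCharacter (P : Subgroup G) (fun x => Φ x)) :
    IsGeneralizedCharacter G (fun g => Φ (pp p g)) := by
  refine isGenChar_of_elementary (fun g h => ?_) fun E q hq hE => ?_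
  · show Φ (pp p (h * g * h⁻¹)) = Φ (pp p g)
    rw [pp_conj, hΦ]
  have hnil := isNilpotent_of_elementary hq hE
  let π : E →* G := E.subtype.comp
    { toFun := fun e => pp p e
      map_one' := pp_of_pEl isPEl_one
      map_mul' := pp_mul_of_nilpotent hnil }
  have hpg : IsPGroup p π.range := by
    rintro ⟨y, e, rfl⟩
    obtain ⟨k, hk⟩ := (isPEl_pp (p := p) e).map E.subtype
    exact ⟨k, Subtype.ext hk⟩
  obtain ⟨Q, hQ⟩ := hpg.exists_le_sylow
  obtain ⟨c, hc⟩ := MulAction.exists_smul_eq G P Q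
  have hmem : ∀ e : E, c⁻¹ * π e * c ∈ (P : Subgroup G) := fun e => by
    have h := hQ ⟨e, rfl⟩
    rw [← hc, Sylow.coe_subgroup_smul, Subgroup.mem_pointwise_smul_iff_inv_smul_mem] at h
    simpa using h
  let π' : E →* (P : Subgroup G) :=
    { toFun := fun e => ⟨c⁻¹ * π e * c, hmem e⟩
      map_one' := Subtype.ext (by simp)
      map_mul' := fun a b => Subtype.ext (by simp [mul_assoc]) }
  refine (funext fun e => ?_ : (fun e : E => Φ (pp p (e : G))) = fun e => Φ (π' e : G)) ▸ isGenChar_comp hP π'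
  show Φ (pp p (E.subtype e)) = Φ (c⁻¹ * π e * c)
  rw [pp_map]
  have h := hΦ (π e) c⁻¹
  rw [inv_inv] at h
  exact h.symm

/-- A generalized character pulled back along the `p`-regular part is a generalized character. -/
theorem isGenChar_rp {θ : G → ℂ} (hθ : IsGeneralizedCharacter G θ) :
    IsGeneralizedCharacter G (fun g => θ (rp p g)) := by
  haveI := Fintype.ofFinite G
  have hcl := isGenChar_iff_coeff_int.mp hθ
  refine isGenChar_of_elementary (fun g h => ?_) fun E q hq hE => ?_
  · show θ (rp p (h * g * h⁻¹)) = θ (rp p g)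
    rw [rp_conj, hcl.1]
  have hnil := isNilpotent_of_elementary hq hE
  obtain ⟨U, -, hU, hcomm⟩ := exists_coprime_part hnil p
  let π : E →* G := E.subtype.comp
    { toFun := fun e => rp p e
      map_one' := by simp [rp, pp_of_pEl isPEl_one]
      map_mul' := fun a b => by
        have hmix : Commute (pp p b) (rp p a) := by
          obtain ⟨k, hk⟩ := isPEl_pp (p := p) b
          exact hcomm _ _
            (((isPReg_rp a).pow_right k).coprime_dvd_right (orderOf_dvd_of_pow_eq_one hk)).symm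
        show (pp p (a * b))⁻¹ * (a * b) = _
        rw [pp_mul_of_nilpotent hnil]
        calc (pp p a * pp p b)⁻¹ * (a * b) = (pp p b)⁻¹ * rp p a * b := by simp [rp, mul_assoc]
          _ = rp p a * (pp p b)⁻¹ * b := by rw [hmix.inv_left.eq]
          _ = rp p a * rp p b := by simp [rp, mul_assoc] }
  refine (funext fun e => ?_ : (fun e : E => θ (rp p (e : G))) = fun e => θ (π e)) ▸ isGenChar_comp hθ π
  show θ (rp p (E.subtype e)) = θ (π e)
  rw [rp_map]; rfl

end GenChar

end CfsgLib.SmithTyrer
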