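import Cfsg.Agent.Lib.SmithTyrer.Lift
import Cfsg.Agent.Lib.SmithTyrer.Norm
import Cfsg.Agent.Lib.CharTheory.Linear

/-!
A signed irreducible character equal to one on all singular elements.
-/

set_option autoImplicit false
set_option linter.unusedSectionVars false

namespace CfsgLib.SmithTyrer

open Cfsg CfsgLib.CharTheory
open scoped ComplexConjugate

universe u

variable {p : ℕ} [hp : Fact p.Prime] {G : Type u} [Group G] [Fintype G] {P : Sylow p G}

/-- The linear characters of the Sylow subgroup. -/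
abbrev Lin (P : Sylow p G) : Type u := IrrCharacter ↥(P : Subgroup G)

noncomputable local instance sylowFintype : Fintype (P : Subgroup G) := Fintype.ofFinite _

theorem lin_deg (h : Hyp P) (l : Lin P) : (l).1 1 = 1 :=
  degree_one_of_commutative (fun a b => Subtype.ext (h.comm a a.2 b b.2)) l.2

theorem lin_mul (h : Hyp P) (l : Lin P) (x y : (P : Subgroup G)) :
    (l).1 (x * y) = (l).1 x * (l).1 y := by
  obtain ⟨φ, hφ⟩ := exists_hom_of_degree_one (isCharacter_of_irr l.2) (lin_deg h l)
  rw [hφ]; simp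

theorem lin_inv (l : Lin P) (x : (P : Subgroup G)) : (l).1 x⁻¹ = conj ((l).1 x) :=
  char_apply_inv (isCharacter_of_irr l.2) x

/-- The trivial character. -/
noncomputable def linOne : Lin P := ⟨fun _ => 1, isIrrCharacter_one⟩

/-- The conjugate character. -/
noncomputable def linBar (l : Lin P) : Lin P := by
  refine ⟨fun x => conj ((l).1 x), ?_⟩
  refine irr_of_char_norm_one (isCharacter_conj (isCharacter_of_irr l.2)) ?_
  have := classInner_irr_self l.2
  simpa [classInner, mul_comm] using this

theorem linBar_apply (l : Lin P) (x : (P : Subgroup G)) : (linBar l).1 x = conj ((l).1 x) := rfl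

theorem linBar_linBar (l : Lin P) : linBar (linBar l) = l :=
  Subtype.ext (funext fun x => Complex.conj_conj _)

theorem eq_one_of_linBar (h : Hyp P) {l : Lin P} (e : linBar l = l) : l = linOne := by
  refine Subtype.ext (funext fun x => ?_)
  have hcop : (Nat.card (P : Subgroup G)).Coprime 2 := by
    obtain ⟨k, hk⟩ := P.2.exists_card_eq
    rw [hk]
    exact ((Nat.coprime_primes hp.out Nat.prime_two).mpr h.odd).pow_left k
  obtain ⟨y, hy⟩ := (powCoprime hcop).surjective x
  have e1 : (l).1 y⁻¹ = (l).1 y := by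
    rw [lin_inv, ← linBar_apply, e]
  have e2 := lin_mul h l y⁻¹ y
  rw [inv_mul_cancel, lin_deg h l, e1, ← lin_mul h l] at e2
  show (l).1 x = 1
  rw [← hy, powCoprime_apply, pow_two]
  exact e2.symm

theorem sum_lin (h : Hyp P) {x : (P : Subgroup G)} (hx : x ≠ 1) : ∑ l : Lin P, (l).1 x = 0 := by
  classical
  have e := sum_irr_apply_mul_degree x
  rw [if_neg hx] at e
  simpa [lin_deg h] using e

theorem card_lin (h : Hyp P) : Fintype.card (Lin P) = Nat.card (P : Subgroup G) := by
  have e := sum_irr_degree_sq (G := (P : Subgroup G))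
  simp only [lin_deg h, one_pow, Finset.sum_const, Finset.card_univ, nsmul_eq_mul, mul_one] at e
  exact_mod_cast e

open Classical in
/-- `l + l̄ - 2` on the Sylow subgroup. -/
noncomputable def kern (l : Lin P) (y : G) : ℂ :=
  if hy : y ∈ (P : Subgroup G) then (l).1 ⟨y, hy⟩ + conj ((l).1 ⟨y, hy⟩) - 2 else 0

theorem kern_coe (l : Lin P) (x : (P : Subgroup G)) :
    kern l (x : G) = (l).1 x + (linBar l).1 x - 2 := by
  classical
  rw [kern, dif_pos x.2, linBar_apply]

theorem kern_bar (l : Lin P) : kern (linBar l) = kern (P := P) l := by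
  classical
  funext y
  simp only [kern, linBar_apply, Complex.conj_conj]
  split_ifs <;> ring

theorem kern_inv (l : Lin P) {y : G} (hy : y ∈ (P : Subgroup G)) : kern l y⁻¹ = kern l y := by
  classical
  rw [kern, kern, dif_pos hy, dif_pos ((P : Subgroup G).inv_mem hy),
    show (⟨y⁻¹, (P : Subgroup G).inv_mem hy⟩ : (P : Subgroup G)) = (⟨y, hy⟩ : (P : Subgroup G))⁻¹ from rfl,
    lin_inv, Complex.conj_conj]
  ring

theorem kern_fused (h : Hyp P) (l : Lin P) : ∀ a ∈ (P : Subgroup G), ∀ g : G,
    g * a * g⁻¹ ∈ (P : Subgroup G) → kern l (g * a * g⁻¹) = kern l a := by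
  intro a ha g hg
  rcases h.fusion ha hg rfl with e | e <;> rw [e]
  exact kern_inv l ha

/-- The lifted differences. -/
noncomputable def lft (l : Lin P) : G → ℂ := fun g => fuse P (kern l) (pp p g)

theorem kern_one (h : Hyp P) (l : Lin P) : kern l (1 : G) = 0 := by
  have e := kern_coe (P := P) l 1
  rw [OneMemClass.coe_one, linBar_apply, lin_deg h, map_one] at e
  rw [e]; norm_num

theorem lft_reg (h : Hyp P) (l : Lin P) {g : G} (hg : pp p g = 1) : lft l g = 0 := by
  show fuse P (kern l) (pp p g) = 0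
  rw [hg, fuse_of_mem (kern_fused h l) (P : Subgroup G).one_mem, kern_one h]

theorem lft_gen (h : Hyp P) (l : Lin P) : IsGeneralizedCharacter G (lft l) := by
  refine isGenChar_lift (kern_fused h l) ?_
  have e : (fun x : (P : Subgroup G) => kern l (x : G)) =
      (l).1 + (linBar l).1 - ((2 : ℤ) : ℂ) • fun _ => (1 : ℂ) := by
    funext x; simp [kern_coe]
  rw [e]
  exact isGenChar_sub (isGenChar_add (isGenChar_of_char (isCharacter_of_irr l.2))
    (isGenChar_of_char (isCharacter_of_irr (linBar l).2))) (isGenChar_intSmul 2 (isGenChar_of_char isCharacter_one))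

theorem kern_conj (l : Lin P) (y : G) : conj (kern l y) = kern l y := by
  classical
  simp only [kern]
  split_ifs
  · simp only [map_sub, map_add, Complex.conj_conj, map_ofNat]; ring
  · simp

/-- Inner products with the lifted differences. -/
theorem Hyp.inner_lft (h : Hyp P) {a : G → ℂ} (ha : IsClassFunction G a) (l : Lin P) :
    2 * (Nat.card (P : Subgroup G) : ℂ) * classInner a (lft l) = ∑ y ∈ punct P, avg P a y * kern l y := by
  rw [h.inner_singular ha (isGenChar_iff_coeff_int.1 (lft_gen h l)).1 fun g hg => lft_reg h l hg]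
  refine Finset.sum_congr rfl fun y hy => ?_
  rw [mul_comm]
  have e := avg_pp_mul (P := P) (fun x => conj (fuse P (kern l) x)) a (mem_punct.1 hy).1
  rw [show (fun g => a g * conj (lft l g)) = fun g => conj (fuse P (kern l) (pp p g)) * a g from
    funext fun g => mul_comm _ _, e, fuse_of_mem (kern_fused h l) (mem_punct.1 hy).1, kern_conj]

theorem sum_punct (f : G → ℂ) (h1 : f 1 = 0) :
    ∑ y ∈ punct P, f y = ∑ x : (P : Subgroup G), f x := by
  classical
  rw [← Finset.sum_erase (Finset.univ : Finset (P : Subgroup G)) (a := 1) (by simpa using h1)]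
  refine Finset.sum_bij' (fun y hy => (⟨y, (mem_punct.1 hy).1⟩ : (P : Subgroup G))) (fun x _ => (x : G))
    (fun y hy => Finset.mem_erase.2 ⟨fun e => (mem_punct.1 hy).2 (congrArg Subtype.val e), Finset.mem_univ _⟩)
    (fun x hx => mem_punct.2 ⟨x.2, fun e => (Finset.mem_erase.1 hx).1 (Subtype.ext e)⟩)
    (fun _ _ => rfl) (fun _ _ => rfl) fun _ _ => rfl

theorem Hyp.inner_lft_lft (h : Hyp P) [DecidableEq (Lin P)] {l m : Lin P} (hl : l ≠ linOne) (hm : m ≠ linOne) :
    classInner (lft l) (lft m) =
      (if l = m then 1 else 0) + (if l = linBar m then 1 else 0) + 2 := by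
  classical
  have e := h.inner_lft (isGenChar_iff_coeff_int.1 (lft_gen h l)).1 m
  rw [Finset.sum_congr rfl fun y hy => by
    rw [show avg P (lft l) y = kern l y from (h.avg_pp _ (mem_punct.1 hy).1 (mem_punct.1 hy).2).trans
      (fuse_of_mem (kern_fused h l) (mem_punct.1 hy).1)],
    sum_punct _ (by rw [kern_one h, zero_mul])] at e
  set a : ↥(P : Subgroup G) → ℂ := fun x => (l).1 x + (linBar l).1 x - 2 * (linOne (P := P)).1 x with ha
  set b : ↥(P : Subgroup G) → ℂ := fun x => (m).1 x + (linBar m).1 x - 2 * (linOne (P := P)).1 x with hb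
  have e2 : ∑ x : (P : Subgroup G), kern l (x : G) * kern m (x : G) =
      (Nat.card (P : Subgroup G) : ℂ) * classInner a b := by
    rw [classInner, ← mul_assoc, mul_inv_cancel₀ (Nat.cast_ne_zero.2 Nat.card_pos.ne'), one_mul]
    refine Finset.sum_congr rfl fun x _ => ?_
    rw [← kern_conj m, kern_coe, kern_coe]
    simp [ha, hb, linOne]
  rw [e2] at e
  have ea : a = (l).1 + (linBar l).1 - (2 : ℂ) • (linOne (P := P)).1 := by
    funext x; simp [ha]
  have eb : b = (m).1 + (linBar m).1 - (2 : ℂ) • (linOne (P := P)).1 := by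
    funext x; simp [hb]
  have ip : ∀ u v : Lin P, classInner (u).1 (v).1 = if u = v then 1 else 0 := fun u v => by
    by_cases huv : u = v
    · rw [if_pos huv, huv, classInner_irr_self v.2]
    · rw [if_neg huv, classInner_irr_ne u.2 v.2 fun e => huv (Subtype.ext e)]
  have hbar1 : linBar (linOne (P := P)) = linOne := Subtype.ext (funext fun _ => map_one _)
  have hlb : linBar l ≠ linOne := fun e => hl (by rw [← linBar_linBar l, e, hbar1])
  have hmb : linBar m ≠ linOne := fun e => hm (by rw [← linBar_linBar m, e, hbar1])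
  have i1 : (linBar l = m) = (l = linBar m) :=
    propext ⟨fun e => by rw [← e, linBar_linBar], fun e => by rw [e, linBar_linBar]⟩
  have i2 : (linBar l = linBar m) = (l = m) :=
    propext ⟨fun e => by simpa [linBar_linBar] using congrArg linBar e, fun e => by rw [e]⟩
  rw [ea, eb] at e
  simp only [classInner_add_left, classInner_sub_left, classInner_add_right, classInner_sub_right,
    classInner_smul_left, classInner_smul_right, map_ofNat, ip, i1, i2, if_neg hl, if_neg hlb, if_neg hm.symm,
    if_neg hmb.symm, if_true] at e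
  have hq : (Nat.card (P : Subgroup G) : ℂ) ≠ 0 := Nat.cast_ne_zero.2 Nat.card_pos.ne'
  apply mul_left_cancel₀ hq
  linear_combination (1 / 2 : ℂ) * e

theorem Hyp.inner_one_lft (h : Hyp P) {l : Lin P} (hl : l ≠ linOne) : classInner (fun _ => (1 : ℂ)) (lft l) = -1 := by
  classical
  have e := h.inner_lft (a := fun _ => (1 : ℂ)) (fun _ _ => rfl) l
  rw [Finset.sum_congr rfl fun y hy => by
    rw [h.avg_of_const (F := fun _ => (1 : ℂ)) (mem_punct.1 hy).1 (mem_punct.1 hy).2 fun _ _ => rfl, one_mul],
    sum_punct _ (kern_one h l)] at e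
  have hz : ∀ u : Lin P, u ≠ linOne → ∑ x : (P : Subgroup G), (u).1 x = 0 := fun u hu => by
    have := classInner_irr_ne u.2 (linOne (P := P)).2 fun e => hu (Subtype.ext e)
    rw [classInner] at this
    simpa [linOne, Nat.card_pos.ne'] using this
  have hlb : linBar l ≠ linOne := fun e => hl (by
    rw [← linBar_linBar l, e]; exact Subtype.ext (funext fun _ => map_one _))
  simp only [kern_coe, Finset.sum_sub_distrib, Finset.sum_add_distrib, hz l hl, hz _ hlb, Finset.sum_const,
    Finset.card_univ, ← Nat.card_eq_fintype_card, nsmul_eq_mul] at e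
  have hq : (Nat.card (P : Subgroup G) : ℂ) ≠ 0 := Nat.cast_ne_zero.2 Nat.card_pos.ne'
  apply mul_left_cancel₀ hq
  linear_combination (1 / 2 : ℂ) * e

theorem Hyp.nine_le (h : Hyp P) : 9 ≤ Nat.card (P : Subgroup G) := by
  obtain ⟨k, hk⟩ := P.2.exists_card_eq
  have h3 : 3 ≤ p := by
    have := hp.out.two_le; have := h.odd; omega
  have hk2 : 2 ≤ k := by
    by_contra hk2
    refine h.noncyclic ?_
    interval_cases k
    · haveI : Subsingleton (P : Subgroup G) := (Nat.card_eq_one_iff_unique.1 (by simpa using hk)).1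
      exact inferInstance
    · exact isCyclic_of_prime_card (p := p) (by simpa using hk)
  rw [hk]
  calc 9 = 3 ^ 2 := rfl
    _ ≤ p ^ 2 := Nat.pow_le_pow_left h3 2
    _ ≤ p ^ k := Nat.pow_le_pow_right hp.out.pos hk2

/-- The common constituent. -/
theorem Hyp.exists_pre (h : Hyp P) : ∃ φ : G → ℂ, IsSignedIrr φ ∧ classInner φ (fun _ => 1) = 0 ∧
    ∀ l : Lin P, l ≠ linOne → classInner φ (lft l) = -1 := by
  classical
  set one : G → ℂ := fun _ => 1 with hone
  have hone' : IsIrrCharacter G one := isIrrCharacter_one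
  let S : Set (G → ℂ) := {u | ∃ l : Lin P, l ≠ linOne ∧ u = lft l + one}
  have h1l : ∀ l : Lin P, l ≠ linOne → classInner (lft l) one = -1 := fun l hl => by
    rw [← classInner_comm, h.inner_one_lft hl, map_neg, map_one]
  have hin : ∀ l m : Lin P, l ≠ linOne → m ≠ linOne → classInner (lft l + one) (lft m + one) =
      (if l = m then 1 else 0) + (if l = linBar m then 1 else 0) + 1 := fun l m hl hm => by
    rw [classInner_add_left, classInner_add_right, classInner_add_right, h.inner_lft_lft hl hm, h1l l hl,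
      h.inner_one_lft hm, classInner_irr_self hone']
    ring
  have hne : ∀ l : Lin P, l ≠ linOne → l ≠ linBar l := fun l hl e => hl (eq_one_of_linBar h e.symm)
  have hS2 : ∀ u ∈ S, classInner u u = 2 := by
    rintro u ⟨l, hl, rfl⟩
    rw [hin l l hl hl, if_pos rfl, if_neg (hne l hl)]; norm_num
  have hkb : ∀ m : Lin P, lft (linBar m) = lft (P := P) m := fun m => by
    funext g; show fuse P (kern _) _ = fuse P (kern _) _; rw [kern_bar]
  have hS1 : ∀ u ∈ S, ∀ v ∈ S, u ≠ v → classInner u v = 1 := by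
    rintro u ⟨l, hl, rfl⟩ v ⟨m, hm, rfl⟩ huv
    have n1 : l ≠ m := fun e => huv (by rw [e])
    have n2 : l ≠ linBar m := fun e => huv (by rw [e, hkb])
    rw [hin l m hl hm, if_neg n1, if_neg n2]; norm_num
  have hgen : ∀ u ∈ S, IsGeneralizedCharacter G u := by
    rintro u ⟨l, -, rfl⟩
    exact isGenChar_add (lft_gen h l) (isGenChar_of_char isCharacter_one)
  have hcard : 9 ≤ Fintype.card (Lin P) := by rw [card_lin h]; exact h.nine_le
  have pick : ∀ T : Finset (Lin P), T.card < 9 → ∃ l, l ∉ T := fun T hT => by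
    by_contra hall
    push Not at hall
    have := Finset.card_le_card (s := (Finset.univ : Finset (Lin P))) fun x _ => hall x
    rw [Finset.card_univ] at this
    omega
  obtain ⟨l1, m1⟩ := pick {linOne} (by simp)
  obtain ⟨l2, m2⟩ := pick {linOne, l1, linBar l1} (lt_of_le_of_lt Finset.card_le_three (by norm_num))
  obtain ⟨l3, m3⟩ := pick {linOne, l1, linBar l1, l2, linBar l2} (lt_of_le_of_lt Finset.card_le_five (by norm_num))
  obtain ⟨l4, m4⟩ := pick ({linOne, l1, linBar l1, l2, linBar l2, l3, linBar l3} : Finset (Lin P)) (by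
    refine lt_of_le_of_lt ?_ (show 7 < 9 by norm_num)
    exact le_trans (Finset.card_insert_le _ _) (Nat.succ_le_succ (Finset.card_le_six)))
  simp only [Finset.mem_insert, Finset.mem_singleton, not_or] at m1 m2 m3 m4
  have dist : ∀ l m : Lin P, l ≠ linOne → m ≠ linOne → l ≠ m → l ≠ linBar m → lft l + one ≠ lft m + one := by
    intro l m hl hm n1 n2 e
    have := hin l m hl hm
    rw [e, hin m m hm hm, if_pos rfl, if_neg (hne m hm), if_neg n1, if_neg n2] at this
    norm_num at this
  obtain ⟨c, hc, hc1⟩ := star S hgen hS2 hS1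
    ⟨_, ⟨l1, m1, rfl⟩, _, ⟨l2, m2.1, rfl⟩, _, ⟨l3, m3.1, rfl⟩, _, ⟨l4, m4.1, rfl⟩,
      (dist l2 l1 m2.1 m1 m2.2.1 m2.2.2).symm, (dist l3 l1 m3.1 m1 m3.2.1 m3.2.2.1).symm,
      (dist l4 l1 m4.1 m1 m4.2.1 m4.2.2.1).symm, (dist l3 l2 m3.1 m2.1 m3.2.2.2.1 m3.2.2.2.2).symm,
      (dist l4 l2 m4.1 m2.1 m4.2.2.2.1 m4.2.2.2.2.1).symm,
      (dist l4 l3 m4.1 m3.1 m4.2.2.2.2.2.1 m4.2.2.2.2.2.2).symm⟩
  have hu0 : classInner (lft l1 + one) one = 0 := by
    rw [classInner_add_left, h1l l1 m1, classInner_irr_self hone']; norm_num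
  have hcone : classInner c one = 0 := by
    rcases signed_cases hc (Or.inl hone' : IsSignedIrr one) with e | ⟨ε, hε, e⟩
    · exact e
    · have := hc1 _ ⟨l1, m1, rfl⟩
      rw [e, classInner_smul_right, hu0, mul_zero] at this
      exact absurd this zero_ne_one
  refine ⟨-c, ?_, by rw [classInner_neg_left, hcone, neg_zero], fun l hl => ?_⟩
  · rcases hc with hc | hc
    · exact Or.inr (by rwa [neg_neg])
    · exact Or.inl hc
  · have e := hc1 _ ⟨l, hl, rfl⟩
    rw [classInner_add_left, ← classInner_comm c one, hcone, map_zero, add_zero] at e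
    rw [classInner_neg_left, ← classInner_comm (lft l) c, e, map_one]

/-- A function on the punctured Sylow subgroup killed by all differences vanishes. -/
theorem Hyp.fourier (h : Hyp P) {f : G → ℂ} (hinv : ∀ y ∈ punct P, f y⁻¹ = f y)
    (h0 : ∀ l : Lin P, l ≠ linOne → ∑ y ∈ punct P, f y * kern l y = 0) : ∀ y ∈ punct P, f y = 0 := by
  classical
  set g : ↥(P : Subgroup G) → ℂ := fun x => if x = 1 then 0 else f x with hg
  have key : ∀ l : Lin P, ∑ x : (P : Subgroup G), g x * (l).1 x = ∑ x : (P : Subgroup G), g x := by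
    intro l
    by_cases hl : l = linOne
    · subst hl; simp [linOne]
    have e := h0 l hl
    rw [Finset.sum_congr rfl fun y hy => show f y * kern l y =
      (fun z => (if z = 1 then 0 else f z) * kern l z) y by simp [(mem_punct.1 hy).2],
      sum_punct _ (by simp)] at e
    have hs : ∑ x : (P : Subgroup G), g x * (linBar l).1 x = ∑ x : (P : Subgroup G), g x * (l).1 x := by
      refine Fintype.sum_equiv (Equiv.inv _) _ _ fun x => ?_
      simp only [Equiv.inv_apply, lin_inv, linBar_apply, hg, inv_eq_one, Subgroup.coe_inv]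
      by_cases hx : x = 1
      · simp [hx]
      · rw [if_neg hx, if_neg hx, hinv x (mem_punct.2 ⟨x.2, fun e => hx (Subtype.ext e)⟩)]
    simp only [OneMemClass.coe_eq_one, kern_coe, ← show ∀ x : (P : Subgroup G), g x =
      (if x = 1 then 0 else f x) from fun _ => rfl, mul_sub, mul_add, Finset.sum_sub_distrib,
      Finset.sum_add_distrib, hs, ← Finset.sum_mul] at e
    linear_combination (1 / 2 : ℂ) * e
  intro y hy
  set w : (P : Subgroup G) := ⟨y, (mem_punct.1 hy).1⟩ with hw
  have hw1 : w ≠ 1 := fun e => (mem_punct.1 hy).2 (congrArg Subtype.val e)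
  have e : ∑ l : Lin P, (l).1 w⁻¹ * ∑ x : (P : Subgroup G), g x * (l).1 x = 0 := by
    rw [Finset.sum_congr rfl fun l _ => by rw [key l], ← Finset.sum_mul, sum_lin h (inv_ne_one.2 hw1), zero_mul]
  rw [Finset.sum_congr rfl fun l _ => Finset.mul_sum _ _ _, Finset.sum_comm,
    Finset.sum_eq_single w (fun x _ hx => by
      rw [Finset.sum_congr rfl fun l _ => show (l).1 w⁻¹ * (g x * (l).1 x) = g x * (l).1 (w⁻¹ * x) by
        rw [lin_mul h]; ring, ← Finset.mul_sum, sum_lin h (fun e => hx (inv_mul_eq_one.1 e).symm), mul_zero])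
      (fun hh => absurd (Finset.mem_univ w) hh),
    Finset.sum_congr rfl fun l _ => show (l).1 w⁻¹ * (g w * (l).1 w) = g w by
      rw [show g w * (l).1 w = (l).1 w * g w from mul_comm _ _, ← mul_assoc, ← lin_mul h,
        inv_mul_cancel, lin_deg h, one_mul]] at e
  rw [Finset.sum_const, Finset.card_univ, card_lin h, nsmul_eq_mul] at e
  have := (mul_eq_zero.1 e).resolve_left (Nat.cast_ne_zero.2 Nat.card_pos.ne')
  simp [hg, hw] at this
  exact this (mem_punct.1 hy).2

end CfsgLib.SmithTyrer
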