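import Cfsg.Agent.Lib.SmithTyrer.Final
import Cfsg.Agent.Lib.SmithTyrer.Extension
import Cfsg.Agent.Lib.PSeries
import Cfsg.Agent.Lib.TransferApps

/-!
Smith–Tyrer: abelian noncyclic Sylow subgroup with automizer of order two.
-/

set_option autoImplicit false
set_option linter.unusedSectionVars false

namespace CfsgLib.SmithTyrer

open Cfsg CfsgLib CfsgLib.CharTheory
open scoped Pointwise

universe u

variable {p : ℕ} [hp : Fact p.Prime] {G : Type u} [Group G] [Finite G] {P : Sylow p G}

theorem Hyp.exists_involution (h : Hyp P) : ∃ j : G, orderOf j = 2 := by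
  haveI := Fintype.ofFinite G
  obtain ⟨t, ht⟩ := h.inverter
  haveI : Fact (Nat.Prime 2) := ⟨Nat.prime_two⟩
  refine exists_prime_orderOf_dvd_card' 2 (dvd_trans ?_ (orderOf_dvd_natCard t))
  by_contra hodd
  have hnine := h.nine_le (G := G) (P := P)
  obtain ⟨x, hx, hx1⟩ : ∃ x ∈ (P : Subgroup G), x ≠ 1 := by
    by_contra hall
    push Not at hall
    have : (P : Subgroup G) = ⊥ := (Subgroup.eq_bot_iff_forall _).2 hall
    rw [this, Subgroup.card_bot] at hnine
    omega
  have h2 : t ^ 2 * x * (t ^ 2)⁻¹ = x := by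
    calc t ^ 2 * x * (t ^ 2)⁻¹ = t * (t * x * t⁻¹) * t⁻¹ := by rw [pow_two]; group
      _ = x := by rw [ht x hx, ht _ ((P : Subgroup G).inv_mem hx), inv_inv]
  have hc : Commute (t ^ 2) x := by rwa [mul_inv_eq_iff_eq_mul] at h2
  obtain ⟨k, hk⟩ := Nat.odd_iff.2 (Nat.mod_two_ne_zero.1 fun e => hodd (Nat.dvd_of_mod_eq_zero e))
  have ht' : t = (t ^ 2) ^ (k + 1) := by
    rw [← pow_mul, show 2 * (k + 1) = orderOf t + 1 by omega, pow_succ, pow_orderOf_eq_one, one_mul]
  have hct : Commute t x := ht' ▸ hc.pow_left _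
  refine hx1 (eq_one_of_inv_eq h hx ?_)
  rw [← ht x hx, hct.eq, mul_inv_cancel_right]

/-- With trivial `p'`-core the Sylow subgroup is normal. -/
theorem Hyp.normal (h : Hyp P) (hcore : pPrimeCore p G = ⊥) : (P : Subgroup G).Normal := by
  classical
  haveI := Fintype.ofFinite G
  obtain ⟨φ, hφ, hφ1, hone⟩ := h.exists_psi
  have hirr : ∃ (χ : G → ℂ) (ε : ℂ), IsIrrCharacter G χ ∧ (ε = 1 ∨ ε = -1) ∧ φ = ε • χ := by
    rcases hφ with hh | hh
    · exact ⟨φ, 1, hh, Or.inl rfl, (one_smul _ _).symm⟩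
    · exact ⟨-φ, -1, hh, Or.inr rfl, by simp⟩
  obtain ⟨χ, ε, hχ, hε, hφχ⟩ := hirr
  have hε0 : ε ≠ 0 := by rcases hε with rfl | rfl <;> norm_num
  by_cases hf : φ 1 = 1
  · -- linear
    obtain ⟨d, hd, hd1⟩ := irr_degree_pos hχ
    have hε1 : ε = 1 := by
      rcases hε with e | e
      · exact e
      · have := congrFun hφχ 1
        rw [hf, Pi.smul_apply, e, hd1, smul_eq_mul] at this
        have h2 : ((d + 1 : ℕ) : ℂ) = 0 := by push_cast; linear_combination this
        exact absurd (Nat.cast_eq_zero.1 h2) (Nat.succ_ne_zero d)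
    rw [hε1, one_smul] at hφχ
    subst hφχ
    obtain ⟨η, hη⟩ := exists_hom_of_degree_one (isCharacter_of_irr hχ) hf
    set L := η.ker with hL
    have hmem : ∀ g, φ g = 1 → g ∈ L := fun g hg => MonoidHom.mem_ker.2 (Units.ext (by
      rw [hη] at hg; simpa using hg))
    have hsing : ∀ g : G, pp p g ≠ 1 → g ∈ L := fun g hg => hmem g (hone g hg)
    have hPL : (P : Subgroup G) ≤ L := fun x hx => by
      by_cases hx1 : x = 1
      · rw [hx1]; exact L.one_mem
      · exact hsing x (by rwa [pp_of_pEl (isPEl_of_mem P.2 hx)])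
    obtain ⟨x, hx, hx1⟩ : ∃ x ∈ (P : Subgroup G), x ≠ 1 := by
      by_contra hall
      push Not at hall
      have e : (P : Subgroup G) = ⊥ := (Subgroup.eq_bot_iff_forall _).2 hall
      have := h.nine_le
      rw [e, Subgroup.card_bot] at this
      omega
    have hCL : ∀ s, (∀ y ∈ (P : Subgroup G), s * y * s⁻¹ = y) → s ∈ L := by
      intro s hs
      by_cases hps : pp p s = 1
      · have hc : Commute x s := by
          have := hs x hx
          rw [mul_inv_eq_iff_eq_mul] at this
          exact this.symm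
        have h1 : x * s ∈ L := hsing _ (by
          rw [pp_mul hc (isPEl_of_mem P.2 hx) (pp_eq_one_iff.1 hps)]; exact hx1)
        exact (Subgroup.mul_mem_cancel_left L (hPL hx)).1 h1
      · exact hsing s hps
    obtain ⟨t, ht⟩ := h.inverter
    have htL : t ∉ L := by
      intro htL
      have hN : Subgroup.normalizer ((P : Subgroup G) : Set G) ≤ L := fun n hn => by
        rcases h.dich n hn with hd' | hd'
        · exact hCL n hd'
        · have hnt : n * t ∈ L := hCL _ fun y hy => by
            calc n * t * y * (n * t)⁻¹ = n * (t * y * t⁻¹) * n⁻¹ := by group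
              _ = y := by rw [ht y hy, hd' _ ((P : Subgroup G).inv_mem hy), inv_inv]
          exact (Subgroup.mul_mem_cancel_right L htL).1 hnt
      have htop : L = ⊤ := by
        have hs := Sylow.normalizer_sup_eq_top (N := L) (P.subtype hPL)
        rw [Sylow.coe_subtype, Subgroup.map_subgroupOf_eq_of_le hPL] at hs
        rw [← hs]
        exact (sup_eq_right.2 hN).symm
      have hall : ∀ g, φ g = 1 := fun g => by
        rw [hη]
        show ((η g : ℂˣ) : ℂ) = 1
        rw [show η g = 1 from MonoidHom.mem_ker.1 (by rw [← hL, htop]; exact Subgroup.mem_top g), Units.val_one]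
      rw [show φ = fun _ => (1 : ℂ) from funext hall, classInner_irr_self isIrrCharacter_one] at hφ1
      exact one_ne_zero hφ1
    haveI : L.Normal := MonoidHom.normal_ker η
    have hcompl : HasNormalPComplement p L := by
      refine hasNormalPComplement_of_normalizer_le_centralizer (P.subtype hPL) fun n hn => ?_
      rw [Sylow.coe_subtype] at hn ⊢
      have hnN : (n : G) ∈ Subgroup.normalizer ((P : Subgroup G) : Set G) := by
        refine Subgroup.mem_normalizer_iff.2 fun z => ⟨fun hz => ?_, fun hz => ?_⟩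
        · exact (Subgroup.mem_normalizer_iff.1 hn ⟨z, hPL hz⟩).1 hz
        · have hzL : z ∈ L := by
            have := L.mul_mem (L.mul_mem (L.inv_mem n.2) (hPL hz)) n.2
            simpa [mul_assoc] using this
          exact (Subgroup.mem_normalizer_iff.1 hn ⟨z, hzL⟩).2 hz
      rcases h.dich _ hnN with hd' | hd'
      · refine Subgroup.mem_centralizer_iff.2 fun z hz => Subtype.ext ?_
        have := hd' (z : G) hz
        rw [mul_inv_eq_iff_eq_mul] at this
        exact this.symm
      · refine absurd ?_ htL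
        have hnt : (n : G) * t ∈ L := hCL _ fun y hy => by
          calc (n : G) * t * y * ((n : G) * t)⁻¹ = (n : G) * (t * y * t⁻¹) * (n : G)⁻¹ := by group
            _ = y := by rw [ht y hy, hd' _ ((P : Subgroup G).inv_mem hy), inv_inv]
        exact (Subgroup.mul_mem_cancel_left L n.2).1 hnt
    have hLp : IsPGroup p L := by
      have hb : pPrimeCore p L = ⊥ := by
        have h1 : (pPrimeCore p L).map L.subtype ≤ pPrimeCore p G := by
          refine le_sSup ⟨ConjAct.normal_of_characteristic_of_normal, ?_⟩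
          rw [Subgroup.card_map_of_injective L.subtype_injective]
          exact card_pPrimeCore_coprime p
        rw [hcore, le_bot_iff, Subgroup.map_eq_bot_iff_of_injective _ L.subtype_injective] at h1
        exact h1
      have hq := isPGroup_quotient_of_hasNormalPComplement hcompl
      intro g
      obtain ⟨k, hk⟩ := hq (QuotientGroup.mk g)
      refine ⟨k, ?_⟩
      rw [← QuotientGroup.mk_pow, QuotientGroup.eq_one_iff, hb, Subgroup.mem_bot] at hk
      exact hk
    have : L = (P : Subgroup G) := P.is_maximal' hLp hPL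
    rw [← this]; infer_instance
  · -- no such group
    exfalso
    obtain ⟨E, gE, fE, τ, hτ, hk⟩ := h.exists_ext
    haveI := Fintype.ofFinite E
    let D : ExtData P E := ⟨τ, hτ.1, hτ.2.1, hk, preimage_not_comm P hτ hk⟩
    obtain ⟨j, hj⟩ := h.exists_involution
    have hj2 : j * j = 1 := by rw [← pow_two, ← hj, pow_orderOf_eq_one]
    have e := D.no_involution h hφ hφ1 hone hf hj2
    set K := charKernel χ (isCharacter_of_irr hχ) with hK
    have hmemK : ∀ g, g ∈ K ↔ φ g = φ 1 := fun g => by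
      rw [mem_charKernel, hφχ, Pi.smul_apply, Pi.smul_apply, smul_eq_mul, smul_eq_mul, mul_right_inj' hε0]
    haveI : K.Normal := by
      refine ⟨fun g hg x => (hmemK _).2 ?_⟩
      rw [(isGenChar_iff_coeff_int.1 (signed_genChar hφ)).1 g x, (hmemK g).1 hg]
    have hKp : (Nat.card K).Coprime p := by
      refine ((hp.out.coprime_iff_not_dvd).2 fun hd => ?_).symm
      obtain ⟨⟨g, hg⟩, hgo⟩ := exists_prime_orderOf_dvd_card' p hd
      rw [Subgroup.orderOf_mk] at hgo
      have hel : IsPEl p g := ⟨1, by rw [pow_one, ← hgo, pow_orderOf_eq_one]⟩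
      have h1 := hone g (by
        rw [pp_of_pEl hel]; intro e1; rw [e1, orderOf_one] at hgo; exact hp.out.ne_one hgo.symm)
      exact hf (((hmemK g).1 hg).symm.trans h1)
    have : j ∈ pPrimeCore p G := le_pPrimeCore hKp ((hmemK j).2 e)
    rw [hcore, Subgroup.mem_bot] at this
    rw [this, orderOf_one] at hj
    omega

theorem normalizer_image {K : Type u} [Group K] [Finite K] (f : G →* K) (hf : Function.Surjective f)
    (P : Sylow p G) :
    Subgroup.normalizer (((P : Subgroup G).map f : Subgroup K) : Set K) ≤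
      (Subgroup.normalizer ((P : Subgroup G) : Set G)).map f := by
  intro k hk
  obtain ⟨g, rfl⟩ := hf k
  let L := ((P : Subgroup G).map f).comap f
  have h1 : (P : Subgroup G) ≤ L := Subgroup.le_comap_map f _
  have h2 : ((g • P : Sylow p G) : Subgroup G) ≤ L := by
    intro x hx
    rw [Sylow.coe_subgroup_smul, Subgroup.mem_pointwise_smul_iff_inv_smul_mem] at hx
    have hx' : g⁻¹ * x * g ∈ (P : Subgroup G) := by simpa [mul_assoc] using hx
    show f x ∈ (P : Subgroup G).map f
    have := (Subgroup.mem_normalizer_iff.1 hk (f (g⁻¹ * x * g))).1 ⟨_, hx', rfl⟩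
    simpa [mul_assoc] using this
  obtain ⟨a, ha⟩ := MulAction.exists_smul_eq L ((g • P).subtype h2) (P.subtype h1)
  have hag : (a : G) * g ∈ Subgroup.normalizer ((P : Subgroup G) : Set G) := by
    refine Sylow.smul_eq_iff_mem_normalizer.1 ?_
    rw [mul_smul]
    have e := congrArg (fun S : Sylow p L => (S : Subgroup L).map L.subtype) ha
    refine Sylow.ext ?_
    simp only [Sylow.coe_subtype, Subgroup.map_subgroupOf_eq_of_le h1, Sylow.coe_subgroup_smul] at e ⊢
    conv_rhs => rw [← e]
    ext x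
    simp only [Subgroup.mem_map, Subgroup.mem_pointwise_smul_iff_inv_smul_mem]
    constructor
    · intro hx
      have hxa : (a : G)⁻¹ * x * (a : G) ∈ L := h2 (by
        rw [Sylow.coe_subgroup_smul, Subgroup.mem_pointwise_smul_iff_inv_smul_mem]; simpa [mul_assoc] using hx)
      have hxL : x ∈ L := by simpa [mul_assoc] using L.mul_mem (L.mul_mem a.2 hxa) (L.inv_mem a.2)
      exact ⟨⟨x, hxL⟩, by simpa [Subgroup.mem_subgroupOf, Subgroup.mem_pointwise_smul_iff_inv_smul_mem, mul_assoc] using hx, rfl⟩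
    · rintro ⟨y, hy, rfl⟩
      simpa [Subgroup.mem_subgroupOf, Subgroup.mem_pointwise_smul_iff_inv_smul_mem, mul_assoc] using hy
  obtain ⟨q, hq, e⟩ := Subgroup.mem_comap.1 a.2
  refine ⟨q⁻¹ * ((a : G) * g), Subgroup.mul_mem _ (Subgroup.inv_mem _ (Subgroup.le_normalizer hq)) hag, ?_⟩
  rw [map_mul, map_inv, map_mul, e, inv_mul_cancel_left]

/-- Smith–Tyrer. -/
theorem main (P : Sylow p G) (hodd : p ≠ 2) (hab : IsMulCommutative (P : Subgroup G))
    (hnc : ¬ IsCyclic (P : Subgroup G))
    (hidx : ((Subgroup.centralizer ((P : Subgroup G) : Set G)).subgroupOf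
      (Subgroup.normalizer ((P : Subgroup G) : Set G))).index = 2) :
    pResidual p G ≠ ⊤ ∨ PLengthLE p 1 G := by
  classical
  rw [or_iff_not_imp_left, not_not]
  intro htop
  set N := Subgroup.normalizer ((P : Subgroup G) : Set G) with hN
  set C := Subgroup.centralizer ((P : Subgroup G) : Set G) with hC
  have hcomm : ∀ x ∈ (P : Subgroup G), ∀ y ∈ (P : Subgroup G), x * y = y * x := fun x hx y hy =>
    congrArg Subtype.val (hab.is_comm.comm (⟨x, hx⟩ : (P : Subgroup G)) ⟨y, hy⟩)
  have hfix : ∀ n ∈ C, ∀ y ∈ (P : Subgroup G), n * y * n⁻¹ = y := fun n hn y hy => by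
    rw [← Subgroup.mem_centralizer_iff.1 hn y hy, mul_inv_cancel_right]
  obtain ⟨t, ht⟩ : ∃ t : N, t ∉ C.subgroupOf N := by
    by_contra hall
    push Not at hall
    rw [(Subgroup.eq_top_iff' _).2 hall, Subgroup.index_top] at hidx
    omega
  have hsq : ((t : G) * t) ∈ C := by
    have := (Subgroup.mul_mem_iff_of_index_two hidx (a := t) (b := t)).2 Iff.rfl
    simpa [Subgroup.mem_subgroupOf] using this
  have hcases : ∀ n ∈ N, n ∈ C ∨ n * (t : G) ∈ C := by
    intro n hn
    by_cases hnC : n ∈ C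
    · exact Or.inl hnC
    · refine Or.inr ?_
      have := (Subgroup.mul_mem_iff_of_index_two hidx (a := ⟨n, hn⟩) (b := t)).2
        (iff_of_false (by simpa [Subgroup.mem_subgroupOf] using hnC) ht)
      simpa [Subgroup.mem_subgroupOf] using this
  -- the inverted set
  let I : Subgroup G :=
    { carrier := {x | x ∈ (P : Subgroup G) ∧ (t : G) * x * (t : G)⁻¹ = x⁻¹}
      one_mem' := ⟨(P : Subgroup G).one_mem, by simp⟩
      mul_mem' := fun {a b} ha hb => ⟨(P : Subgroup G).mul_mem ha.1 hb.1, by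
        calc (t : G) * (a * b) * (t : G)⁻¹ = ((t : G) * a * (t : G)⁻¹) * ((t : G) * b * (t : G)⁻¹) := by group
          _ = (a * b)⁻¹ := by
            rw [ha.2, hb.2, mul_inv_rev, hcomm _ ((P : Subgroup G).inv_mem ha.1) _ ((P : Subgroup G).inv_mem hb.1)]⟩
      inv_mem' := fun {a} ha => ⟨(P : Subgroup G).inv_mem ha.1, by
        calc (t : G) * a⁻¹ * (t : G)⁻¹ = ((t : G) * a * (t : G)⁻¹)⁻¹ := by group
          _ = a⁻¹⁻¹ := by rw [ha.2]⟩ }
  have htN : ∀ y ∈ (P : Subgroup G), (t : G) * y * (t : G)⁻¹ ∈ (P : Subgroup G) := fun y hy =>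
    (Subgroup.mem_normalizer_iff.1 t.2 y).1 hy
  have hle : ⁅(P : Subgroup G), N⁆ ≤ I := by
    rw [Subgroup.commutator_le]
    intro x hx m hm
    rw [commutatorElement_def]
    rcases hcases m hm with hmC | hmC
    · rw [show x * m * x⁻¹ * m⁻¹ = x * (m * x⁻¹ * m⁻¹) by group,
        hfix m hmC _ ((P : Subgroup G).inv_mem hx), mul_inv_cancel]
      exact I.one_mem
    · have e : m * x⁻¹ * m⁻¹ = (t : G) * x⁻¹ * (t : G)⁻¹ := by
        have h1 := hfix _ hmC _ ((P : Subgroup G).inv_mem ((P : Subgroup G).inv_mem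
          (htN _ ((P : Subgroup G).inv_mem hx))))
        rw [inv_inv] at h1
        calc m * x⁻¹ * m⁻¹ = m * (t : G) * ((t : G)⁻¹ * x⁻¹ * (t : G)) * (m * (t : G))⁻¹ := by group
          _ = (t : G)⁻¹ * x⁻¹ * (t : G) := hfix _ hmC _ ((Subgroup.mem_normalizer_iff''.1 t.2 _).1
              ((P : Subgroup G).inv_mem hx))
          _ = (t : G)⁻¹ * ((t : G) * t * x⁻¹ * ((t : G) * t)⁻¹) * (t : G) := by
            rw [hfix _ hsq _ ((P : Subgroup G).inv_mem hx)]
          _ = _ := by group
      rw [show x * m * x⁻¹ * m⁻¹ = x * (m * x⁻¹ * m⁻¹) by group, e]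
      have hv := htN _ ((P : Subgroup G).inv_mem hx)
      refine ⟨(P : Subgroup G).mul_mem hx hv, ?_⟩
      calc (t : G) * (x * ((t : G) * x⁻¹ * (t : G)⁻¹)) * (t : G)⁻¹
          = ((t : G) * x * (t : G)⁻¹) * ((t : G) * t * x⁻¹ * ((t : G) * t)⁻¹) := by group
        _ = ((t : G) * x * (t : G)⁻¹) * x⁻¹ := by rw [hfix _ hsq _ ((P : Subgroup G).inv_mem hx)]
        _ = _ := by group
  have hinv : ∀ x ∈ (P : Subgroup G), (t : G) * x * (t : G)⁻¹ = x⁻¹ := by
    intro x hx
    have e := CfsgLib.TransferApps.inf_pResidual_eq_of_abelian P hab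
    rw [htop, inf_top_eq, ← hN] at e
    exact (hle (e ▸ hx)).2
  -- the quotient
  let K := pPrimeCore p G
  let f := QuotientGroup.mk' K
  have hfs : Function.Surjective f := QuotientGroup.mk'_surjective K
  let Q := P.mapSurjective hfs
  have hQ : (Q : Subgroup (G ⧸ K)) = (P : Subgroup G).map f := Sylow.coe_mapSurjective _ _
  have hmemQ : ∀ {y}, y ∈ (Q : Subgroup (G ⧸ K)) → ∃ x ∈ (P : Subgroup G), f x = y := fun hy => by
    rw [hQ] at hy; exact Subgroup.mem_map.1 hy
  have hinjP : Function.Injective (f.comp (P : Subgroup G).subtype) := by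
    rw [injective_iff_map_eq_one]
    rintro ⟨x, hx⟩ hx1
    have hxK : x ∈ K := (QuotientGroup.eq_one_iff x).1 hx1
    refine Subtype.ext (eq_one_of_pEl_pReg (isPEl_of_mem P.2 hx) ?_)
    exact Nat.Coprime.coprime_dvd_left (Subgroup.orderOf_dvd_natCard K hxK) (card_pPrimeCore_coprime p)
  have hyp : Hyp Q :=
    { odd := hodd
      comm := fun a ha b hb => by
        obtain ⟨x, hx, rfl⟩ := hmemQ ha
        obtain ⟨y, hy, rfl⟩ := hmemQ hb
        rw [← map_mul, ← map_mul, hcomm x hx y hy]
      noncyclic := fun hcyc => hnc (by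
        haveI := hcyc
        refine isCyclic_of_injective ((f.comp (P : Subgroup G).subtype).codRestrict (Q : Subgroup (G ⧸ K))
          fun x => ?_) fun a b hab' => hinjP (congrArg Subtype.val hab')
        rw [hQ]; exact ⟨_, x.2, rfl⟩)
      dich := fun n hn => by
        rw [hQ] at hn
        obtain ⟨m, hm, rfl⟩ := normalizer_image f hfs P hn
        rcases hcases m hm with hmC | hmC
        · exact Or.inl fun y hy => by
            obtain ⟨x, hx, rfl⟩ := hmemQ hy
            rw [← map_inv, ← map_mul, ← map_mul, hfix m hmC x hx]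
        · refine Or.inr fun y hy => ?_
          obtain ⟨x, hx, rfl⟩ := hmemQ hy
          rw [← map_inv, ← map_inv, ← map_mul, ← map_mul]
          congr 1
          calc m * x * m⁻¹ = m * (t : G) * ((t : G)⁻¹ * x * (t : G)) * (m * (t : G))⁻¹ := by group
            _ = (t : G)⁻¹ * x * (t : G) := hfix _ hmC _ ((Subgroup.mem_normalizer_iff''.1 t.2 _).1 hx)
            _ = x⁻¹ := by
              have := hinv x⁻¹ ((P : Subgroup G).inv_mem hx)
              rw [inv_inv] at this
              conv_lhs => rw [← this]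
              group
      inverter := ⟨f (t : G), fun y hy => by
        obtain ⟨x, hx, rfl⟩ := hmemQ hy
        rw [← map_inv, ← map_mul, ← map_mul, hinv x hx, map_inv]⟩ }
  have hnorm := hyp.normal (pPrimeCore_quotient_eq_bot p)
  haveI := hnorm
  refine PSeries.pLengthLE_of_pPrime_kernel f (by rw [QuotientGroup.ker_mk']; exact card_pPrimeCore_coprime p) ?_
  show PSeries.U p (G ⧸ K) (2 * 1 + 1) = ⊤
  rw [eq_top_iff]
  refine PSeries.le_succ_of_even (i := 2) (by decide) fun y _ => ⟨(Q : Subgroup (G ⧸ K)).index,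
    ((hp.out.coprime_iff_not_dvd).2 Q.not_dvd_index).symm, ?_⟩
  rw [PSeries.U_two (pPrimeCore_quotient_eq_bot p)]
  exact (le_sSup ⟨hnorm, Q.2⟩ : (Q : Subgroup (G ⧸ K)) ≤ pCore p (G ⧸ K))
    (Subgroup.pow_index_mem (Q : Subgroup (G ⧸ K)) y)

end CfsgLib.SmithTyrer
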