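import Cfsg.Agent.Lib.SmithTyrer.Principal

/-!
The residual of the common constituent on the sections vanishes.
-/

set_option autoImplicit false
set_option linter.unusedSectionVars false

namespace CfsgLib.SmithTyrer

open Cfsg CfsgLib.CharTheory
open scoped ComplexConjugate

universe u

variable {p : ℕ} [hp : Fact p.Prime] {G : Type u} [Group G] [Fintype G] {P : Sylow p G}

theorem kern_range (h : Hyp P) (l : Lin P) {y : G} (hy : y ∈ (P : Subgroup G)) :
    ∃ k : ℝ, -4 ≤ k ∧ k ≤ 0 ∧ kern l y = (k : ℂ) := by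
  refine ⟨2 * (l.1 ⟨y, hy⟩).re - 2, ?_, ?_, ?_⟩
  all_goals
    have hn : ‖l.1 (⟨y, hy⟩ : (P : Subgroup G))‖ ≤ ‖l.1 (1 : (P : Subgroup G))‖ :=
      norm_char_le (isCharacter_of_irr l.2) _
    rw [lin_deg h, norm_one] at hn
    have h1 := abs_le.1 ((Complex.abs_re_le_norm _).trans hn)
  · linarith
  · linarith
  · classical
    rw [kern, dif_pos hy, Complex.add_conj]
    push_cast; ring

/-- The mean square residual on a section. -/
noncomputable def res (P : Sylow p G) (φ : G → ℂ) (y : G) : ℝ :=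
  (Nat.card (P : Subgroup G) : ℝ) / (Nat.card (Subgroup.centralizer ({y} : Set G)) : ℝ) *
    ∑ s ∈ regCent p y, Complex.normSq (φ (y * s) - 1)

theorem res_nonneg (φ : G → ℂ) (y : G) : 0 ≤ res P φ y :=
  mul_nonneg (by positivity) (Finset.sum_nonneg fun _ _ => Complex.normSq_nonneg _)

theorem avg_res (φ : G → ℂ) (y : G) :
    avg P (fun g => (φ g - 1) * conj (φ g - 1)) y = (res P φ y : ℂ) := by
  simp only [avg, res, Complex.mul_conj]
  push_cast; rfl

theorem res_zero {φ : G → ℂ} {y : G} (h : res P φ y = 0) : ∀ s ∈ regCent p y, φ (y * s) = 1 := by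
  intro s hs
  rcases mul_eq_zero.1 h with h0 | h0
  · exact absurd h0 (div_ne_zero (Nat.cast_ne_zero.2 Nat.card_pos.ne') (Nat.cast_ne_zero.2 Nat.card_pos.ne'))
  · exact sub_eq_zero.1 (Complex.normSq_eq_zero.1
      ((Finset.sum_eq_zero_iff_of_nonneg fun _ _ => Complex.normSq_nonneg _).1 h0 s hs))

/-- A signed irreducible character equal to one at every singular element. -/
theorem Hyp.exists_psi (h : Hyp P) : ∃ φ : G → ℂ, IsSignedIrr φ ∧ classInner φ (fun _ => 1) = 0 ∧
    ∀ g : G, pp p g ≠ 1 → φ g = 1 := by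
  classical
  obtain ⟨φ, hφ, hφ1, hφF⟩ := h.exists_pre
  have hgen := signed_genChar hφ
  have hcl : IsClassFunction G φ := (isGenChar_iff_coeff_int.1 hgen).1
  set q : ℂ := (Nat.card (P : Subgroup G) : ℂ) with hq
  have hq0 : q ≠ 0 := Nat.cast_ne_zero.2 Nat.card_pos.ne'
  -- the averages are one
  have havg : ∀ y ∈ punct P, avg P φ y - 1 = 0 := by
    refine h.fourier (f := fun y => avg P φ y - 1) (fun y hy => ?_) fun l hl => ?_
    · show avg P φ y⁻¹ - 1 = avg P φ y - 1
      rw [h.avg_inv hcl (mem_punct.1 hy).1]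
    · have e1 := h.inner_lft hcl l
      rw [hφF l hl] at e1
      have e2 := h.inner_lft (a := fun _ => (1 : ℂ)) (fun _ _ => rfl) l
      rw [h.inner_one_lft hl, Finset.sum_congr rfl fun y hy => by
        rw [h.avg_of_const (F := fun _ => (1 : ℂ)) (mem_punct.1 hy).1 (mem_punct.1 hy).2 fun _ _ => rfl]] at e2
      simp only [sub_mul, Finset.sum_sub_distrib, ← e1, ← e2, sub_self]
  have havg' : ∀ y ∈ punct P, avg P φ y = 1 := fun y hy => sub_eq_zero.1 (havg y hy)
  -- squares
  set ν : G → ℂ := fun g => φ g * conj (φ g) with hν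
  have hνcl : IsClassFunction G ν := fun g x => by simp only [hν, hcl g x]
  have havν : ∀ y ∈ punct P, avg P ν y = 1 + (res P φ y : ℂ) := by
    intro y hy
    have hc1 : avg P (fun _ => (1 : ℂ)) y = 1 :=
      h.avg_of_const (F := fun _ => (1 : ℂ)) (mem_punct.1 hy).1 (mem_punct.1 hy).2 fun _ _ => rfl
    have e : (fun g => (φ g - 1) * conj (φ g - 1)) = fun g => ν g - φ g - conj (φ g) + 1 := by
      funext g; simp only [hν, map_sub, map_one]; ring
    rw [← avg_res, e, avg_add (fun g => ν g - φ g - conj (φ g)) fun _ => (1 : ℂ), avg_sub (fun g => ν g - φ g),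
      avg_sub, avg_conj, havg' y hy, hc1, map_one]
    ring
  -- the bound
  set R : ℝ := ∑ y ∈ punct P, res P φ y with hR
  have hc : ((punct P).card : ℂ) = q - 1 := by
    have := congrArg (fun n : ℕ => (n : ℂ)) (card_punct (P := P))
    simp only [Nat.cast_add, Nat.cast_one] at this
    linear_combination this
  have hsum0 : ∑ g : G, φ g = 0 := by
    simp only [classInner, map_one, mul_one] at hφ1
    exact (mul_eq_zero.1 hφ1).resolve_left (inv_ne_zero (Nat.cast_ne_zero.2 Nat.card_pos.ne'))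
  have hS1 : 2 * q * ∑ g ∈ regs p G, φ g = -((Nat.card G : ℂ) * (q - 1)) := by
    have e := h.sum_split hcl
    rw [hsum0, Finset.sum_congr (rfl : punct P = punct P) havg', Finset.sum_const, nsmul_eq_mul, mul_one, hc] at e
    field_simp at e
    linear_combination -e
  have hS2 : 2 * q * ∑ g ∈ regs p G, ν g = (Nat.card G : ℂ) * (q + 1 - (R : ℂ)) := by
    have e := h.sum_split hνcl
    have hn : ∑ g : G, ν g = (Nat.card G : ℂ) := by
      have := classInner_self_signed hφ
      rw [classInner, inv_mul_eq_iff_eq_mul₀ (Nat.cast_ne_zero.2 Nat.card_pos.ne'), mul_one] at this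
      exact this
    rw [hn, Finset.sum_congr (rfl : punct P = punct P) havν, Finset.sum_add_distrib, Finset.sum_const,
      nsmul_eq_mul, mul_one, hc, ← Complex.ofReal_sum, ← hR] at e
    field_simp at e
    linear_combination -e
  have hreg := h.card_reg
  set Qr : ℝ := (Nat.card (P : Subgroup G) : ℝ) with hQr
  set N : ℝ := (Nat.card G : ℝ) with hN
  have hN0 : 0 < N := Nat.cast_pos.2 Nat.card_pos
  have hQ9 : 9 ≤ Qr := by rw [hQr]; exact_mod_cast h.nine_le
  have r1 : 2 * Qr * ∑ g ∈ regs p G, (φ g).re = -(N * (Qr - 1)) := by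
    have := congrArg Complex.re hS1
    simpa [hq, hQr, hN, Complex.re_sum, Complex.mul_re] using this
  have r2 : 2 * Qr * ∑ g ∈ regs p G, Complex.normSq (φ g) = N * (Qr + 1 - R) := by
    have := congrArg Complex.re hS2
    simpa [hq, hQr, hN, hν, Complex.mul_conj, Complex.re_sum, Complex.mul_re] using this
  have r3 : 2 * Qr * ((regs p G).card : ℝ) = N * (Qr + 1) := by
    have := congrArg Complex.re hreg
    simpa [hQr, hN, Complex.mul_re] using this
  have hRlt : R * (Qr + 1) ≤ 4 * Qr := by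
    set c : ℝ := (Qr - 1) / (Qr + 1) with hcdef
    have hpos : 0 ≤ ∑ g ∈ regs p G, Complex.normSq (φ g + c) := Finset.sum_nonneg fun _ _ => Complex.normSq_nonneg _
    have hexp : ∑ g ∈ regs p G, Complex.normSq (φ g + c) = ∑ g ∈ regs p G, Complex.normSq (φ g) +
        2 * c * ∑ g ∈ regs p G, (φ g).re + c ^ 2 * ((regs p G).card : ℝ) := by
      rw [show c ^ 2 * ((regs p G).card : ℝ) = ∑ _g ∈ regs p G, c ^ 2 by rw [Finset.sum_const, nsmul_eq_mul, mul_comm],
        Finset.mul_sum, ← Finset.sum_add_distrib, ← Finset.sum_add_distrib]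
      refine Finset.sum_congr rfl fun g _ => ?_
      simp [Complex.normSq_apply]; ring
    have h2 : 0 ≤ 2 * Qr * ∑ g ∈ regs p G, Complex.normSq (φ g + c) := by positivity
    rw [hexp, mul_add, mul_add, r2, mul_left_comm (2 * Qr), r1, mul_left_comm (2 * Qr), r3] at h2
    have h3 : N * (4 * Qr - R * (Qr + 1)) =
        (N * (Qr + 1 - R) + 2 * c * -(N * (Qr - 1)) + c ^ 2 * (N * (Qr + 1))) * (Qr + 1) := by
      rw [hcdef]; field_simp; ring
    have h4 : 0 ≤ N * (4 * Qr - R * (Qr + 1)) := h3 ▸ mul_nonneg h2 (by linarith)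
    have := nonneg_of_mul_nonneg_right h4 hN0
    linarith
  -- integrality
  have hR0 : 0 ≤ R := Finset.sum_nonneg fun y _ => res_nonneg φ y
  have hνgen : IsGeneralizedCharacter G ν := by
    rcases hφ with hh | hh
    · exact isGenChar_of_char (isCharacter_mul (isCharacter_of_irr hh) (isCharacter_conj (isCharacter_of_irr hh)))
    · refine (funext fun g => ?_ : ν = fun g => (-φ) g * conj ((-φ) g)) ▸
        isGenChar_of_char (isCharacter_mul (isCharacter_of_irr hh) (isCharacter_conj (isCharacter_of_irr hh)))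
      simp [hν]
  have hzero : ∀ y ∈ punct P, res P φ y = 0 := by
    have hl0 : ∀ l : Lin P, l ≠ linOne → ∑ y ∈ punct P, (res P φ y : ℂ) * kern l y = 0 := by
      intro l hl
      obtain ⟨z, hz⟩ := classInner_genChar_int hνgen (lft_gen h l)
      have e1 := h.inner_lft hνcl l
      have e2 := h.inner_lft (a := fun _ => (1 : ℂ)) (fun _ _ => rfl) l
      rw [h.inner_one_lft hl, Finset.sum_congr rfl fun y hy => by
        rw [h.avg_of_const (F := fun _ => (1 : ℂ)) (mem_punct.1 hy).1 (mem_punct.1 hy).2 fun _ _ => rfl, one_mul]] at e2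
      rw [hz, Finset.sum_congr rfl fun y hy => by rw [havν y hy, add_mul, one_mul], Finset.sum_add_distrib, ← e2] at e1
      choose! k hk4 hk0 hk using fun y (hy : y ∈ punct P) => kern_range h l (mem_punct.1 hy).1
      have hcast : ∑ y ∈ punct P, (res P φ y : ℂ) * kern l y = ((∑ y ∈ punct P, res P φ y * k y : ℝ) : ℂ) := by
        push_cast
        exact Finset.sum_congr rfl fun y hy => by rw [hk y hy]
      have hJ : ((∑ y ∈ punct P, res P φ y * k y : ℝ) : ℂ) = ((2 * Qr * ((z : ℝ) + 1) : ℝ) : ℂ) := by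
        rw [← hcast, hQr]; push_cast; linear_combination -e1
      have hJ' := Complex.ofReal_inj.1 hJ
      have b1 : ∑ y ∈ punct P, res P φ y * k y ≤ 0 :=
        Finset.sum_nonpos fun y hy => mul_nonpos_of_nonneg_of_nonpos (res_nonneg φ y) (hk0 y hy)
      have b2 : -4 * R ≤ ∑ y ∈ punct P, res P φ y * k y := by
        rw [hR, Finset.mul_sum]
        refine Finset.sum_le_sum fun y hy => ?_
        nlinarith [res_nonneg (P := P) φ y, hk4 y hy]
      have hz1 : z + 1 ≤ 0 := by
        have : ((z : ℝ) + 1) ≤ 0 := by nlinarith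
        exact_mod_cast this
      have hz2 : -1 < z + 1 := by
        have : (-1 : ℝ) < (z : ℝ) + 1 := by nlinarith
        exact_mod_cast this
      have hz0 : z + 1 = 0 := by omega
      have hz0' : (z : ℝ) + 1 = 0 := by exact_mod_cast hz0
      rw [hcast, hJ', hz0']; simp
    have := h.fourier (f := fun y => (res P φ y : ℂ)) (fun y hy => ?_) hl0
    · exact fun y hy => by exact_mod_cast this y hy
    · show (res P φ y⁻¹ : ℂ) = (res P φ y : ℂ)
      rw [← avg_res, ← avg_res, h.avg_inv (fun g x => by simp only [hcl g x]) (mem_punct.1 hy).1]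
  refine ⟨φ, hφ, hφ1, fun g hg => ?_⟩
  obtain ⟨c, hcP⟩ := exists_in_sylow P (isPEl_pp (p := p) g)
  have hy : c * pp p g * c⁻¹ ∈ punct P := mem_punct.2 ⟨hcP, fun e => hg (by simpa using e)⟩
  have hs : c * rp p g * c⁻¹ ∈ regCent p (c * pp p g * c⁻¹) :=
    mem_regCent.2 ⟨(isPReg_rp g).map (MulAut.conj c).toMonoidHom,
      ((commute_pp_rp g).symm.map (MulAut.conj c).toMonoidHom)⟩
  have := res_zero (hzero _ hy) _ hs
  rwa [show c * pp p g * c⁻¹ * (c * rp p g * c⁻¹) = c * (pp p g * rp p g) * c⁻¹ by group, pp_mul_rp, hcl] at this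

end CfsgLib.SmithTyrer
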