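import Cfsg.Agent.Lib.SmithTyrer.Part
import Cfsg.Agent.Lib.PComplement

/-!
An abelian Sylow subgroup inverted by its normaliser: fusion and sums over the singular elements.
-/

set_option autoImplicit false
set_option linter.unusedSectionVars false

namespace CfsgLib.SmithTyrer

open Cfsg CfsgLib.CharTheory
open scoped ComplexConjugate Pointwise

universe u

variable {p : ℕ} [hp : Fact p.Prime] {G : Type u} [Group G]

/-- The Smith–Tyrer configuration. -/
structure Hyp (P : Sylow p G) : Prop where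
  odd : p ≠ 2
  comm : ∀ x ∈ (P : Subgroup G), ∀ y ∈ (P : Subgroup G), x * y = y * x
  noncyclic : ¬ IsCyclic (P : Subgroup G)
  dich : ∀ n ∈ Subgroup.normalizer ((P : Subgroup G) : Set G),
    (∀ x ∈ (P : Subgroup G), n * x * n⁻¹ = x) ∨ ∀ x ∈ (P : Subgroup G), n * x * n⁻¹ = x⁻¹
  inverter : ∃ n : G, ∀ x ∈ (P : Subgroup G), n * x * n⁻¹ = x⁻¹

variable {P : Sylow p G}

theorem eq_one_of_inv_eq [Finite G] (h : Hyp P) {x : G} (hx : x ∈ (P : Subgroup G)) (he : x⁻¹ = x) :
    x = 1 := by
  refine eq_one_of_pEl_pReg (p := p) (isPEl_of_mem P.2 hx) ?_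
  have h2 : orderOf x ∣ 2 := orderOf_dvd_of_pow_eq_one (by rw [pow_two]; nth_rw 2 [← he]; exact mul_inv_cancel x)
  exact Nat.Coprime.coprime_dvd_left h2 ((Nat.coprime_primes Nat.prime_two hp.out).mpr h.odd.symm)

variable [Finite G]

/-- One sign for all the elements that a conjugation keeps in `P`. -/
theorem Hyp.exists_sign (h : Hyp P) (g : G) :
    (∀ a ∈ (P : Subgroup G), g * a * g⁻¹ ∈ (P : Subgroup G) → g * a * g⁻¹ = a) ∨
    (∀ a ∈ (P : Subgroup G), g * a * g⁻¹ ∈ (P : Subgroup G) → g * a * g⁻¹ = a⁻¹) := by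
  set T : Set G := {b | b ∈ (P : Subgroup G) ∧ g⁻¹ * b * g ∈ (P : Subgroup G)} with hT
  have h1 : (P : Subgroup G) ≤ Subgroup.centralizer T := fun x hx =>
    Subgroup.mem_centralizer_iff.mpr fun b hb => h.comm b hb.1 x hx
  have hmem : ∀ (k y : G), y ∈ ((k • P : Sylow p G) : Subgroup G) ↔ k⁻¹ * y * k ∈ (P : Subgroup G) := by
    intro k y
    rw [Sylow.coe_subgroup_smul, Subgroup.mem_pointwise_smul_iff_inv_smul_mem]
    simp
  have h2 : ((g • P : Sylow p G) : Subgroup G) ≤ Subgroup.centralizer T := by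
    intro x hx
    rw [hmem] at hx
    refine Subgroup.mem_centralizer_iff.mpr fun b hb => ?_
    have e := h.comm _ hb.2 _ hx
    simp only [mul_assoc, mul_inv_cancel_left, mul_right_inj] at e
    simpa [← mul_assoc] using congrArg (fun w => w * g⁻¹) e
  obtain ⟨c, hc⟩ := MulAction.exists_smul_eq (Subgroup.centralizer T) ((g • P).subtype h2) (P.subtype h1)
  have hn : ∀ y : G, y ∈ (P : Subgroup G) ↔ ((c : G) * g)⁻¹ * y * ((c : G) * g) ∈ (P : Subgroup G) := by
    intro y
    by_cases hy : y ∈ Subgroup.centralizer T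
    · have e := congrArg (fun S : Sylow p (Subgroup.centralizer T) =>
        (⟨y, hy⟩ : Subgroup.centralizer T) ∈ (S : Subgroup _)) hc
      simp only [eq_iff_iff] at e
      rw [Sylow.coe_subgroup_smul, Subgroup.mem_pointwise_smul_iff_inv_smul_mem] at e
      simp only [Sylow.coe_subtype, Subgroup.mem_subgroupOf, MulAut.smul_def, map_inv,
        MulAut.conj_inv_apply, Subgroup.coe_mul, Subgroup.coe_inv, hmem] at e
      simpa [mul_assoc] using e.symm
    · constructor
      · exact fun hy' => absurd (h1 hy') hy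
      · intro hy'
        refine absurd ?_ hy
        have h3 : (c : G)⁻¹ * y * (c : G) ∈ Subgroup.centralizer T := h2 (by
          rw [hmem]; simpa [mul_assoc] using hy')
        simpa [mul_assoc] using (Subgroup.centralizer T).mul_mem
          ((Subgroup.centralizer T).mul_mem c.2 h3) ((Subgroup.centralizer T).inv_mem c.2)
  have hnN : (c : G) * g ∈ Subgroup.normalizer ((P : Subgroup G) : Set G) :=
    Subgroup.mem_normalizer_iff''.mpr hn
  have key : ∀ a ∈ (P : Subgroup G), g * a * g⁻¹ ∈ (P : Subgroup G) →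
      g * a * g⁻¹ = (c : G) * g * a * ((c : G) * g)⁻¹ := fun a ha hga => by
    have hb : g * a * g⁻¹ ∈ T := ⟨hga, by simpa [mul_assoc] using ha⟩
    have e := Subgroup.mem_centralizer_iff.mp c.2 _ hb
    calc g * a * g⁻¹ = g * a * g⁻¹ * (c : G) * (c : G)⁻¹ := by group
      _ = (c : G) * (g * a * g⁻¹) * (c : G)⁻¹ := by rw [e]
      _ = _ := by group
  rcases h.dich _ hnN with hd | hd
  · exact Or.inl fun a ha hga => (key a ha hga).trans (hd a ha)
  · exact Or.inr fun a ha hga => (key a ha hga).trans (hd a ha)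

theorem Hyp.fusion (h : Hyp P) {a b g : G} (ha : a ∈ (P : Subgroup G)) (hb : b ∈ (P : Subgroup G))
    (he : g * a * g⁻¹ = b) : b = a ∨ b = a⁻¹ := by
  subst he
  rcases h.exists_sign g with hs | hs
  · exact Or.inl (hs a ha hb)
  · exact Or.inr (hs a ha hb)

theorem Hyp.isConj_inv (h : Hyp P) {a : G} (ha : a ∈ (P : Subgroup G)) : IsConj a a⁻¹ := by
  obtain ⟨n, hn⟩ := h.inverter
  exact isConj_iff.mpr ⟨n, hn a ha⟩

omit hp [Finite G] in
theorem exists_in_sylow [Fact p.Prime] [Finite G] (P : Sylow p G) {x : G} (hx : IsPEl p x) :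
    ∃ c : G, c * x * c⁻¹ ∈ (P : Subgroup G) := by
  obtain ⟨k, hk⟩ := hx
  have hpg : IsPGroup p (Subgroup.zpowers x) := by
    rintro ⟨y, m, rfl⟩
    exact ⟨k, Subtype.ext (by
      show (x ^ m) ^ p ^ k = 1
      rw [← zpow_natCast, ← zpow_mul, mul_comm, zpow_mul, zpow_natCast, hk, one_zpow])⟩
  obtain ⟨Q, hQ⟩ := hpg.exists_le_sylow
  obtain ⟨c, hc⟩ := MulAction.exists_smul_eq G Q P
  refine ⟨c, ?_⟩
  rw [← hc, Sylow.coe_subgroup_smul, Subgroup.mem_pointwise_smul_iff_inv_smul_mem]
  simpa [mul_assoc] using hQ (Subgroup.mem_zpowers x)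

theorem Hyp.complement (h : Hyp P) {y : G} (hy : y ∈ (P : Subgroup G)) (hy1 : y ≠ 1) :
    HasNormalPComplement p (Subgroup.centralizer ({y} : Set G)) := by
  have hle : (P : Subgroup G) ≤ Subgroup.centralizer ({y} : Set G) := fun x hx =>
    Subgroup.mem_centralizer_singleton_iff.2 (h.comm x hx y hy)
  refine hasNormalPComplement_of_normalizer_le_centralizer (P.subtype hle) fun n hn => ?_
  rw [Sylow.coe_subtype] at hn ⊢
  refine Subgroup.mem_centralizer_iff.2 fun z hz => Subtype.ext ?_
  have hz' : (z : G) ∈ (P : Subgroup G) := hz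
  have hzn : (n : G) * z * (n : G)⁻¹ ∈ (P : Subgroup G) :=
    (Subgroup.mem_normalizer_iff.1 hn z).1 hz
  have hny : (n : G) * y * (n : G)⁻¹ = y := by
    have := Subgroup.mem_centralizer_singleton_iff.1 n.2
    rw [this, mul_inv_cancel_right]
  rcases h.exists_sign n with hs | hs
  · have e := hs z hz' hzn
    calc (z : G) * n = (n : G) * z * (n : G)⁻¹ * n := by rw [e]
      _ = n * z := by group
  · refine absurd ?_ hy1
    exact eq_one_of_inv_eq h hy ((hs y hy (by rw [hny]; exact hy)).symm.trans hny)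

/-- The `p`-regular elements centralizing `y`. -/
noncomputable def regCent [Fintype G] (p : ℕ) (y : G) : Finset G := by
  classical exact Finset.univ.filter fun s => IsPReg p s ∧ Commute s y

theorem mem_regCent [Fintype G] {y s : G} : s ∈ regCent p y ↔ IsPReg p s ∧ Commute s y := by
  classical simp [regCent]

theorem Hyp.card_regCent [Fintype G] (h : Hyp P) {y : G} (hy : y ∈ (P : Subgroup G)) (hy1 : y ≠ 1) :
    (regCent p y).card * Nat.card (P : Subgroup G) = Nat.card (Subgroup.centralizer ({y} : Set G)) := by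
  classical
  set C := Subgroup.centralizer ({y} : Set G) with hC
  have hle : (P : Subgroup G) ≤ C := fun x hx =>
    Subgroup.mem_centralizer_singleton_iff.2 (h.comm x hx y hy)
  have hcpl := pPrimeCore_isComplement'_sylow
    (isPGroup_quotient_of_hasNormalPComplement (h.complement hy hy1)) (P.subtype hle)
  have hcard : (regCent p y).card = Nat.card (pPrimeCore p C) := by
    rw [← Nat.card_eq_finsetCard]
    refine Nat.card_congr
      { toFun := fun s => ⟨⟨s.1, Subgroup.mem_centralizer_singleton_iff.2 (mem_regCent.1 s.2).2.eq⟩,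
          mem_pPrimeCore_of_hasNormalPComplement (h.complement hy hy1)
            (by rw [← Subgroup.orderOf_coe]; exact (mem_regCent.1 s.2).1)⟩
        invFun := fun k => ⟨((k : C) : G), mem_regCent.2 ⟨?_, Subgroup.mem_centralizer_singleton_iff.1 k.1.2⟩⟩
        left_inv := fun s => rfl
        right_inv := fun k => rfl }
    have : orderOf ((k : C) : G) ∣ Nat.card (pPrimeCore p C) := by
      rw [Subgroup.orderOf_coe, Subgroup.orderOf_coe]; exact orderOf_dvd_natCard k
    exact Nat.Coprime.coprime_dvd_left this (card_pPrimeCore_coprime p)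
  rw [hcard, ← hcpl.card_mul, Sylow.coe_subtype, Nat.card_congr (Subgroup.subgroupOfEquivOfLe hle).toEquiv]

theorem card_transporter {a b c : G} (hc : c * a * c⁻¹ = b) :
    Nat.card {x : G // x * a * x⁻¹ = b} = Nat.card (Subgroup.centralizer ({b} : Set G)) := by
  refine Nat.card_congr
    { toFun := fun x => ⟨x.1 * c⁻¹, Subgroup.mem_centralizer_singleton_iff.2 ?_⟩
      invFun := fun z => ⟨z.1 * c, ?_⟩
      left_inv := fun x => Subtype.ext (inv_mul_cancel_right _ _)
      right_inv := fun z => Subtype.ext (mul_inv_cancel_right _ _) }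
  · have hx := x.2
    calc x.1 * c⁻¹ * b = x.1 * c⁻¹ * (c * a * c⁻¹) := by rw [hc]
      _ = x.1 * a * x.1⁻¹ * (x.1 * c⁻¹) := by group
      _ = b * (x.1 * c⁻¹) := by rw [hx]
  · calc z.1 * c * a * (z.1 * c)⁻¹ = z.1 * (c * a * c⁻¹) * z.1⁻¹ := by group
      _ = b * z.1 * z.1⁻¹ := by rw [hc, Subgroup.mem_centralizer_singleton_iff.1 z.2]
      _ = b := mul_inv_cancel_right _ _

section Sum

variable [Fintype G]

open Classical in
/-- The average over a section. -/
noncomputable def avg (P : Sylow p G) (F : G → ℂ) (y : G) : ℂ :=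
  (Nat.card (P : Subgroup G) : ℂ) / (Nat.card (Subgroup.centralizer ({y} : Set G)) : ℂ) *
    ∑ s ∈ regCent p y, F (y * s)

open Classical in
/-- The nontrivial elements of the Sylow subgroup. -/
noncomputable def punct (P : Sylow p G) : Finset G :=
  Finset.univ.filter fun y => y ∈ (P : Subgroup G) ∧ y ≠ 1

theorem mem_punct {y : G} : y ∈ punct P ↔ y ∈ (P : Subgroup G) ∧ y ≠ 1 := by
  classical simp [punct]

theorem card_punct : (punct P).card + 1 = Nat.card (P : Subgroup G) := by
  classical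
  rw [Nat.card_eq_fintype_card, Fintype.card_subtype, ← Finset.card_insert_of_notMem
    (show (1 : G) ∉ punct P from fun h => (mem_punct.1 h).2 rfl)]
  congr 1
  ext y
  simp only [Finset.mem_insert, mem_punct, Finset.mem_filter, Finset.mem_univ, true_and]
  exact ⟨fun h => h.elim (fun e => e ▸ (P : Subgroup G).one_mem) And.left,
    fun h => (em (y = 1)).imp id fun e => ⟨h, e⟩⟩

open Classical in
/-- Sums over the `p`-singular elements, by sections. -/
theorem Hyp.sum_singular (h : Hyp P) {F : G → ℂ} (hF : IsClassFunction G F) :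
    2 * (Nat.card (P : Subgroup G) : ℂ) *
        ∑ g ∈ Finset.univ.filter (fun g => pp p g ≠ 1), F g =
      (Nat.card G : ℂ) * ∑ y ∈ punct P, avg P F y := by
  set F' : G → ℂ := fun g => F g / (Nat.card (Subgroup.centralizer ({pp p g} : Set G)) : ℂ) with hF'
  have hcent : ∀ b : G, (Nat.card (Subgroup.centralizer ({b} : Set G)) : ℂ) ≠ 0 :=
    fun b => Nat.cast_ne_zero.2 Nat.card_pos.ne'
  have hF'cl : IsClassFunction G F' := by
    intro g x
    simp only [hF', hF g x, pp_conj]
    rw [← card_transporter (a := pp p g) (b := x * pp p g * x⁻¹) (c := x) rfl,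
      ← card_transporter (a := pp p g) (b := pp p g) (c := 1) (by group)]
    congr 2
    refine Nat.card_congr
      { toFun := fun z => ⟨x⁻¹ * z.1, ?_⟩
        invFun := fun z => ⟨x * z.1, ?_⟩
        left_inv := fun z => Subtype.ext (mul_inv_cancel_left _ _)
        right_inv := fun z => Subtype.ext (inv_mul_cancel_left _ _) }
    · calc x⁻¹ * z.1 * pp p g * (x⁻¹ * z.1)⁻¹ = x⁻¹ * (z.1 * pp p g * z.1⁻¹) * x := by group
        _ = pp p g := by rw [z.2]; group
    · calc x * z.1 * pp p g * (x * z.1)⁻¹ = x * (z.1 * pp p g * z.1⁻¹) * x⁻¹ := by group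
        _ = _ := by rw [z.2]
  -- the double count
  set A := (punct P).sigma (fun y => (Finset.univ : Finset G) ×ˢ regCent p y) with hA
  set B := (Finset.univ.filter (fun g => pp p g ≠ 1)).sigma
    (fun g => ((punct P) ×ˢ (Finset.univ : Finset G)).filter fun w => w.2 * w.1 * w.2⁻¹ = pp p g) with hB
  have hsum : ∑ a ∈ A, F' (a.2.1 * (a.1 * a.2.2) * a.2.1⁻¹) = ∑ b ∈ B, F' b.1 := by
    refine Finset.sum_bij' (fun a _ => ⟨a.2.1 * (a.1 * a.2.2) * a.2.1⁻¹, (a.1, a.2.1)⟩)
      (fun b _ => ⟨b.2.1, (b.2.2, b.2.2⁻¹ * rp p b.1 * b.2.2)⟩) ?_ ?_ ?_ ?_ ?_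
    · rintro ⟨y, x, s⟩ ha
      simp only [hA, Finset.mem_sigma, Finset.mem_product, Finset.mem_univ, true_and, mem_punct,
        mem_regCent] at ha
      have hpp : pp p (x * (y * s) * x⁻¹) = x * y * x⁻¹ := by
        rw [pp_conj, pp_mul ha.2.2.symm (isPEl_of_mem P.2 ha.1.1) ha.2.1]
      simp only [hB, Finset.mem_sigma, Finset.mem_filter, Finset.mem_univ, true_and, Finset.mem_product,
        mem_punct, hpp]
      exact ⟨by simpa using ha.1.2, ⟨ha.1, trivial⟩, trivial⟩
    · rintro ⟨g, y, x⟩ hb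
      simp only [hB, Finset.mem_sigma, Finset.mem_filter, Finset.mem_univ, true_and, Finset.mem_product,
        mem_punct] at hb
      simp only [hA, Finset.mem_sigma, Finset.mem_product, Finset.mem_univ, true_and, mem_punct, mem_regCent]
      refine ⟨hb.2.1.1, ?_, ?_⟩
      · have h1 := (isPReg_rp (p := p) g).map (MulAut.conj x⁻¹).toMonoidHom
        simpa [MulAut.conj_apply] using h1
      · have hc := (commute_pp_rp (p := p) g).symm.map (MulAut.conj x⁻¹).toMonoidHom
        rw [← hb.2.2] at hc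
        simpa [MulAut.conj_apply, mul_assoc] using hc
    · rintro ⟨y, x, s⟩ ha
      simp only [hA, Finset.mem_sigma, Finset.mem_product, Finset.mem_univ, true_and, mem_punct,
        mem_regCent] at ha
      simp only [rp_conj, rp_mul ha.2.2.symm (isPEl_of_mem P.2 ha.1.1) ha.2.1]
      simp [mul_assoc]
    · rintro ⟨g, y, x⟩ hb
      simp only [hB, Finset.mem_sigma, Finset.mem_filter, Finset.mem_univ, true_and, Finset.mem_product,
        mem_punct] at hb
      have e : x * (y * (x⁻¹ * rp p g * x)) * x⁻¹ = g := by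
        calc _ = x * y * x⁻¹ * rp p g := by group
          _ = g := by rw [hb.2.2, pp_mul_rp]
      simp only [e]
    · intro a _; rfl
  have hLHS : ∑ a ∈ A, F' (a.2.1 * (a.1 * a.2.2) * a.2.1⁻¹) =
      (Nat.card G : ℂ) * ∑ y ∈ punct P, avg P F y / (Nat.card (P : Subgroup G) : ℂ) := by
    rw [hA, Finset.sum_sigma, Finset.mul_sum]
    refine Finset.sum_congr rfl fun y hy => ?_
    rw [Finset.sum_product]
    simp only [hF'cl _ _, Finset.sum_const, Finset.card_univ, ← Nat.card_eq_fintype_card, nsmul_eq_mul]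
    congr 1
    have hq : (Nat.card (P : Subgroup G) : ℂ) ≠ 0 := Nat.cast_ne_zero.2 Nat.card_pos.ne'
    rw [avg, Finset.mul_sum, Finset.sum_div]
    refine Finset.sum_congr rfl fun s hs => ?_
    rw [hF']
    simp only [pp_mul (mem_regCent.1 hs).2.symm (isPEl_of_mem P.2 (mem_punct.1 hy).1) (mem_regCent.1 hs).1]
    field_simp
  have hRHS : ∑ b ∈ B, F' b.1 = 2 * ∑ g ∈ Finset.univ.filter (fun g => pp p g ≠ 1), F g := by
    rw [hB, Finset.sum_sigma, Finset.mul_sum]
    refine Finset.sum_congr rfl fun g hg => ?_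
    simp only [Finset.mem_filter, Finset.mem_univ, true_and] at hg
    dsimp only
    rw [Finset.sum_const, nsmul_eq_mul, hF']
    obtain ⟨c, hc⟩ := exists_in_sylow P (isPEl_pp (p := p) g)
    set y₀ := c * pp p g * c⁻¹ with hy₀
    have hy1 : y₀ ≠ 1 := fun e => hg (by simpa [hy₀] using e)
    have hne : y₀ ≠ y₀⁻¹ := fun e => hy1 (eq_one_of_inv_eq h hc e.symm)
    have hset : ((punct P) ×ˢ (Finset.univ : Finset G)).filter (fun w => w.2 * w.1 * w.2⁻¹ = pp p g) =
        ({y₀, y₀⁻¹} : Finset G).biUnion (fun y => ((Finset.univ : Finset G).filter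
          (fun x => x * y * x⁻¹ = pp p g)).map ⟨fun x => (y, x), fun a b e => (Prod.ext_iff.1 e).2⟩) := by
      ext ⟨y, x⟩
      simp only [Finset.mem_filter, Finset.mem_product, Finset.mem_univ, and_true, Finset.mem_biUnion,
        Finset.mem_insert, Finset.mem_singleton, Finset.mem_map, Function.Embedding.coeFn_mk, Prod.mk.injEq,
        mem_punct, true_and]
      constructor
      · rintro ⟨⟨hy, -⟩, he⟩
        refine ⟨y, ?_, x, he, rfl⟩
        have := h.fusion hy hc (g := c * x) (by rw [hy₀, ← he]; group)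
        rcases this with e | e
        · exact Or.inl e.symm
        · exact Or.inr (by rw [e, inv_inv])
      · rintro ⟨y', hy', x', he, rfl, rfl⟩
        refine ⟨?_, he⟩
        rcases hy' with rfl | rfl
        · exact ⟨hc, hy1⟩
        · exact ⟨(P : Subgroup G).inv_mem hc, inv_ne_one.2 hy1⟩
    have hfib : ∀ y, IsConj y (pp p g) → ((Finset.univ : Finset G).filter (fun x => x * y * x⁻¹ = pp p g)).card =
        Nat.card (Subgroup.centralizer ({pp p g} : Set G)) := fun y hy => by
      obtain ⟨d, hd⟩ := isConj_iff.1 hy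
      rw [← card_transporter hd, Nat.card_eq_fintype_card, Fintype.card_subtype]
    have hc0 : IsConj y₀ (pp p g) := isConj_iff.2 ⟨c⁻¹, by rw [hy₀]; group⟩
    have hcard : (((punct P) ×ˢ (Finset.univ : Finset G)).filter
        (fun w => w.2 * w.1 * w.2⁻¹ = pp p g)).card =
          2 * Nat.card (Subgroup.centralizer ({pp p g} : Set G)) := by
      rw [hset, Finset.card_biUnion, Finset.sum_pair hne, Finset.card_map, Finset.card_map, hfib _ hc0,
        hfib _ ((h.isConj_inv hc).symm.trans hc0), two_mul]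
      intro a _ b _ hab
      simp only [Function.onFun, Finset.disjoint_left, Finset.mem_map, Function.Embedding.coeFn_mk]
      rintro _ ⟨x, -, rfl⟩ ⟨x', -, e⟩
      exact hab (Prod.ext_iff.1 e).1.symm
    rw [hcard]
    have := hcent (pp p g)
    push_cast
    field_simp
  have hq : (Nat.card (P : Subgroup G) : ℂ) ≠ 0 := Nat.cast_ne_zero.2 Nat.card_pos.ne'
  calc _ = (Nat.card (P : Subgroup G) : ℂ) *
        (2 * ∑ g ∈ Finset.univ.filter (fun g => pp p g ≠ 1), F g) := by ring
    _ = _ := by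
      rw [← hRHS, ← hsum, hLHS, ← Finset.sum_div]
      field_simp

end Sum

end CfsgLib.SmithTyrer
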